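import Groth.Agent.L14.Chart.PtsRep
import Groth.Agent.L25.SplitSub.Map
import Groth.Agent.L25.SplitSub.SmoothTorus
import Mathlib.RingTheory.TensorProduct.MonoidAlgebra

/-!
The chart `T × 𝔾_a^idx ⟶ G` of a split group on points with values in algebras.
-/

set_option autoImplicit false
universe u

open CategoryTheory CategoryTheory.Limits AlgebraicGeometry MonoidalCategory CartesianMonoidalCategory MonObj
open Groth.L14.RankOne Groth.L25

set_option backward.isDefEq.respectTransparency.types false
set_option linter.style.haveILetI false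

noncomputable section

namespace Groth.L14.Chart

theorem smooth_groupAlgebra (R : Type u) [CommRing R] (M : Type) [AddCommGroup M] [Module.Finite ℤ M]
    [Module.Free ℤ M] : Algebra.Smooth R (MonoidAlgebra R (Multiplicative M)) := by
  let r := Module.finrank ℤ M
  let e : M ≃ₗ[ℤ] (Fin r → ℤ) := (Module.finBasis ℤ M).equivFun
  let F := Multiplicative (Fin r → ℤ)
  haveI : Monoid.FG F :=
    AddMonoid.fg_iff_mul_fg.1 (AddGroup.fg_iff_addMonoid_fg.1 (Module.Finite.iff_addGroup_fg.1 inferInstance))
  haveI : Algebra.Smooth ℤ (MonoidAlgebra ℤ F) :=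
    ⟨SplitSub.formallySmooth_torus ℤ r, Algebra.FinitePresentation.of_finiteType.1 inferInstance⟩
  haveI : Algebra.Smooth R (MonoidAlgebra R F) :=
    Algebra.Smooth.of_equiv (MonoidAlgebra.scalarTensorEquiv ℤ R (M := F))
  exact Algebra.Smooth.of_equiv (MonoidAlgebra.domCongr R R e.toAddEquiv.toMultiplicative.symm)

variable {S : Scheme.{u}} {G : Over S} [GrpObj G] (D : Red.SplitRed G)

/-- The coordinates of a point of `T × 𝔾_a^idx`. -/
@[ext]
structure Coord (C : Type u) [CommRing C] : Type u where
  /-- the torus part -/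
  tor : Multiplicative D.M →* C
  /-- the root coordinates -/
  co : D.idx → C

variable {D}

/-- The image of coordinates under a ring map. -/
def Coord.map {C C' : Type u} [CommRing C] [CommRing C'] (h : C →+* C') (d : Coord D C) : Coord D C' :=
  ⟨(h : C →* C').comp d.tor, fun c => h (d.co c)⟩

theorem Coord.map_map {C C' C'' : Type u} [CommRing C] [CommRing C'] [CommRing C''] (h : C →+* C')
    (h' : C' →+* C'') (d : Coord D C) : (d.map h).map h' = d.map (h'.comp h) := rfl

variable (D) in
/-- The origin. -/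
def Coord.zero (C : Type u) [CommRing C] : Coord D C := ⟨1, 0⟩

theorem Coord.map_zero {C C' : Type u} [CommRing C] [CommRing C'] (h : C →+* C') :
    (Coord.zero D C).map h = Coord.zero D C' := by
  refine Coord.ext (MonoidHom.ext fun m => ?_) (funext fun c => ?_)
  · exact h.map_one
  · exact h.map_zero

section Universal

variable {R : Type u} [CommRing R]

variable (D R) in
/-- The coordinate ring of `T × 𝔾_a^idx`. -/
abbrev CoordRing : Type u := MvPolynomial D.idx (MonoidAlgebra R (Multiplicative D.M))

instance : Algebra.Smooth R (CoordRing D R) := by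
  haveI := smooth_groupAlgebra R D.M
  haveI : Algebra.Smooth (MonoidAlgebra R (Multiplicative D.M)) (CoordRing D R) :=
    ⟨inferInstance, inferInstance⟩
  exact Algebra.Smooth.comp R (MonoidAlgebra R (Multiplicative D.M)) _

variable (D R) in
/-- The universal coordinates. -/
def univCoord : Coord D (CoordRing D R) :=
  ⟨(MvPolynomial.C : _ →+* CoordRing D R).toMonoidHom.comp (MonoidAlgebra.of R (Multiplicative D.M)),
    MvPolynomial.X⟩

variable {C : Type u} [CommRing C] [Algebra R C]

/-- The map of given coordinates. -/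
def evalCoord (d : Coord D C) : CoordRing D R →ₐ[R] C :=
  MvPolynomial.aevalTower (MonoidAlgebra.lift R C (Multiplicative D.M) d.tor) d.co

theorem map_evalCoord (d : Coord D C) : (univCoord D R).map (evalCoord (R := R) d).toRingHom = d := by
  refine Coord.ext (MonoidHom.ext fun m => ?_) (funext fun c => ?_)
  · show evalCoord d (MvPolynomial.C (MonoidAlgebra.of R _ m)) = d.tor m
    rw [evalCoord, MvPolynomial.aevalTower_C, MonoidAlgebra.lift_of]
  · exact MvPolynomial.aevalTower_X _ _ c

theorem coordHom_ext {f g : CoordRing D R →ₐ[R] C}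
    (h : (univCoord D R).map f.toRingHom = (univCoord D R).map g.toRingHom) : f = g := by
  refine AlgHom.coe_ringHom_injective (MvPolynomial.ringHom_ext (fun a => ?_) fun c => ?_)
  · have : f.comp (IsScalarTower.toAlgHom R (MonoidAlgebra R (Multiplicative D.M)) (CoordRing D R)) =
        g.comp (IsScalarTower.toAlgHom R (MonoidAlgebra R (Multiplicative D.M)) (CoordRing D R)) :=
      AlgHom.coe_ringHom_injective (MonoidAlgebra.ringHom_ext
        (fun r => (AlgHom.commutes _ r).trans (AlgHom.commutes _ r).symm)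
        fun m => DFunLike.congr_fun (congrArg Coord.tor h) m)
    exact DFunLike.congr_fun this a
  · exact congrFun (congrArg Coord.co h) c

variable (D R) in
/-- The origin as a point of the coordinate ring. -/
def originPt : CoordRing D R →ₐ[R] R := evalCoord (Coord.zero D R)

theorem evalCoord_map {C' : Type u} [CommRing C'] [Algebra R C'] (h : C →ₐ[R] C') (d : Coord D C) :
    evalCoord (R := R) (d.map h.toRingHom) = h.comp (evalCoord d) := by
  refine coordHom_ext ?_
  rw [map_evalCoord, show (h.comp (evalCoord (R := R) d)).toRingHom = h.toRingHom.comp (evalCoord (R := R) d).toRingHom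
    from rfl, ← Coord.map_map, map_evalCoord]

end Universal

section Points

variable {R : Type u} [CommRing R] (j : Spec (CommRingCat.of R) ⟶ S)
  {C C' : Type u} [CommRing C] [Algebra R C] [CommRing C'] [Algebra R C']

variable (D) in
/-- The point of the torus of a character. -/
def tpt (χ : Multiplicative D.M →* C) : Sp j C ⟶ D.T :=
  DSPts.pt ((Scheme.ΓSpecIso (CommRingCat.of C)).inv.hom.toMonoidHom.comp χ) ≫ D.split.inv.hom.hom

theorem split_inv_hom : D.split.inv.hom.hom ≫ D.split.hom.hom.hom = 𝟙 _ := by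
  exact congr($(D.split.inv_hom_id).hom.hom)

theorem split_hom_inv : D.split.hom.hom.hom ≫ D.split.inv.hom.hom = 𝟙 _ := by
  exact congr($(D.split.hom_inv_id).hom.hom)

theorem tpt_hom (χ : Multiplicative D.M →* C) :
    tpt D j χ ≫ D.split.hom.hom.hom =
      DSPts.pt ((Scheme.ΓSpecIso (CommRingCat.of C)).inv.hom.toMonoidHom.comp χ) := by
  rw [tpt, Category.assoc, split_inv_hom, Category.comp_id]

theorem mor_tpt (h : C →ₐ[R] C') (χ : Multiplicative D.M →* C) :
    mor j h ≫ tpt D j χ = tpt D j ((h : C →* C').comp χ) := by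
  rw [tpt, tpt, ← Category.assoc]
  congr 1
  refine DSPts.char_injective (MonoidHom.ext fun m => ?_)
  rw [DSPts.char_comp, DSPts.char_pt, DSPts.char_pt]
  exact mor_appTop j h (χ m)

theorem tpt_mul (χ ψ : Multiplicative D.M →* C) : tpt D j (χ * ψ) = tpt D j χ * tpt D j ψ := by
  have h : IsMonHom D.split.inv.hom.hom := inferInstance
  rw [tpt, tpt, tpt, ← MonObj.mul_comp, ← DSPts.pt_mul]
  congr 2
  exact MonoidHom.ext fun m => map_mul (Scheme.ΓSpecIso (CommRingCat.of C)).inv.hom (χ m) (ψ m)

theorem tpt_one : tpt D j (1 : Multiplicative D.M →* C) = 1 := by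
  rw [tpt, show (Scheme.ΓSpecIso (CommRingCat.of C)).inv.hom.toMonoidHom.comp (1 : Multiplicative D.M →* C) = 1
    from MonoidHom.ext fun m => map_one (Scheme.ΓSpecIso (CommRingCat.of C)).inv.hom, DSPts.pt_one,
    MonObj.one_comp]

theorem tpt_injective : Function.Injective (tpt D j : (Multiplicative D.M →* C) → _) := fun χ ψ h => by
  have h1 := congrArg (fun t => DSPts.char (t ≫ D.split.hom.hom.hom)) h
  simp only [tpt_hom, DSPts.char_pt] at h1
  exact MonoidHom.ext fun m =>
    (ConcreteCategory.bijective_of_isIso (Scheme.ΓSpecIso (CommRingCat.of C)).inv).1 (DFunLike.congr_fun h1 m)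

theorem exists_tpt (t : Sp j C ⟶ D.T) : ∃ χ, tpt D j χ = t := by
  refine ⟨(Scheme.ΓSpecIso (CommRingCat.of C)).hom.hom.toMonoidHom.comp (DSPts.char (t ≫ D.split.hom.hom.hom)), ?_⟩
  have h : DSPts.pt (DSPts.char (t ≫ D.split.hom.hom.hom)) ≫ D.split.inv.hom.hom = t := by
    rw [DSPts.pt_char, Category.assoc, split_hom_inv, Category.comp_id]
  refine Eq.trans ?_ h
  rw [tpt]
  congr 2
  exact MonoidHom.ext fun m => Iso.hom_inv_id_apply (Scheme.ΓSpecIso (CommRingCat.of C)) _

theorem gmFn_eq_char {T : Over S} (t : T ⟶ Red.DS S ℤ) :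
    Red.gmFn t = DSPts.char t (Multiplicative.ofAdd (1 : ℤ)) := by
  rw [DSPts.char_apply, DSPts.ringHomOfPt, Red.gmFn, Red.gmCoord]
  rfl

theorem gmFn_tpt_chi (χ : Multiplicative D.M →* C) (m : D.M) :
    Red.gmFn (tpt D j χ ≫ D.split.hom.hom.hom ≫ Red.chi S m) =
      (Scheme.ΓSpecIso (CommRingCat.of C)).inv (χ (Multiplicative.ofAdd m)) := by
  rw [← Category.assoc, tpt_hom]
  rw [gmFn_eq_char, Red.chi, SplitSub.char_DSmap, DSPts.char_pt]
  simp [AddMonoidHom.toMultiplicative]

variable {v : D.idx → (Red.Ga S ⟶ G)}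

variable (v) in
/-- The product of the root parts along a list. -/
def rootProd (l : List D.idx) (x : D.idx → C) : Sp j C ⟶ G := (l.map fun c => gp j (x c) ≫ v c).prod

variable (v) in
/-- The chart on points. -/
def chart (l : List D.idx) (d : Coord D C) : Sp j C ⟶ G := (tpt D j d.tor ≫ D.i) * rootProd j v l d.co

theorem mor_rootProd (h : C →ₐ[R] C') (l : List D.idx) (x : D.idx → C) :
    mor j h ≫ rootProd j v l x = rootProd j v l (fun c => h (x c)) := by
  induction l with
  | nil => exact MonObj.comp_one _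
  | cons c l ih =>
    simp only [rootProd, List.map_cons, List.prod_cons] at ih ⊢
    rw [MonObj.comp_mul, ih, ← Category.assoc, mor_gp]

theorem mor_chart (h : C →ₐ[R] C') (l : List D.idx) (d : Coord D C) :
    mor j h ≫ chart j v l d = chart j v l (d.map h.toRingHom) := by
  rw [chart, chart, MonObj.comp_mul, ← Category.assoc, mor_tpt, mor_rootProd]
  rfl

theorem rootProd_eq_one [∀ c, IsMonHom (v c)] {l : List D.idx} {x : D.idx → C} (h : ∀ c ∈ l, x c = 0) :
    rootProd j v l x = 1 := by
  refine List.prod_eq_one fun g hg => ?_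
  obtain ⟨c, hc, rfl⟩ := List.mem_map.1 hg
  rw [h c hc, gp_zero, MonObj.one_comp]

theorem isMonHom_i : IsMonHom D.i := D.maximalTorus.1

theorem chart_zero [∀ c, IsMonHom (v c)] (l : List D.idx) : chart j v l (Coord.zero D C) = 1 := by
  haveI := isMonHom_i (D := D)
  rw [chart, rootProd_eq_one j (x := (Coord.zero D C).co) fun c _ => rfl]
  show (tpt D j (1 : Multiplicative D.M →* C) ≫ D.i) * 1 = 1
  rw [tpt_one, MonObj.one_comp, _root_.one_mul]

end Points

end Groth.L14.Chart
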