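import Groth.Agent.L08.EtalePoint
import Mathlib.RingTheory.Ideal.Quotient.Operations
import Mathlib.RingTheory.Spectrum.Prime.Topology
import Mathlib.RingTheory.Jacobson.Ideal

/-!
# Étaleness along a section by point derivations

A map of smooth algebras over a ring is étale near a section as soon as it is bijective on derivations
at the closed points of the section; points infinitesimally near to the section then lift uniquely.
-/

set_option autoImplicit false
set_option linter.style.haveILetI false

universe u v w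

open TensorProduct

namespace Groth.L14.Chart

variable {R : Type u} [CommRing R]

/-- `w` is a derivation at the point `χ`. -/
def IsPtDer {A : Type v} [CommRing A] [Algebra R A] {K : Type w} [CommRing K] [Algebra R K] (χ : A →ₐ[R] K)
    (w : A →ₗ[R] K) : Prop :=
  ∀ a b, w (a * b) = χ a * w b + χ b * w a

theorem IsPtDer.map_one {A : Type v} [CommRing A] [Algebra R A] {K : Type w} [CommRing K] [Algebra R K]
    {χ : A →ₐ[R] K} {w : A →ₗ[R] K} (h : IsPtDer χ w) : w 1 = 0 := by
  have := h 1 1
  simpa using this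

/-- A finite module without functionals into the residue field at `χ` is killed by an element
outside `ker χ`. -/
theorem exists_smul_eq_zero {B : Type v} [CommRing B] {K : Type v} [Field K] (χ : B →+* K)
    (hχ : Function.Surjective χ) (C : Type w) [AddCommGroup C] [Module B C] [Module.Finite B C]
    (h : ∀ ψ : C →+ K, (∀ (b : B) (c : C), ψ (b • c) = χ b * ψ c) → ψ = 0) :
    ∃ g : B, χ g ≠ 0 ∧ ∀ c : C, g • c = 0 := by
  let P : Ideal B := RingHom.ker χ
  let e : B ⧸ P ≃+* K := RingHom.quotientKerEquivOfSurjective hχ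
  have hle : (⊤ : Submodule B C) ≤ P • ⊤ := by
    intro c _
    by_contra hc
    let Q := C ⧸ (P • ⊤ : Submodule B C)
    letI : Module K Q := Module.compHom Q e.symm.toRingHom
    have hne : (Submodule.Quotient.mk c : Q) ≠ 0 := fun e' =>
      hc ((Submodule.Quotient.mk_eq_zero _).1 e')
    obtain ⟨φ, hφ⟩ := Module.Projective.exists_dual_ne_zero K hne
    let ψ : C →+ K := φ.toAddMonoidHom.comp (P • ⊤ : Submodule B C).mkQ.toAddMonoidHom
    have hψ : ψ = 0 := h ψ fun b x => by
      have hbx : (Submodule.Quotient.mk (b • x) : Q) = χ b • (Submodule.Quotient.mk x : Q) := by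
        have he : e.symm (χ b) = Ideal.Quotient.mk P b := e.symm_apply_eq.2 rfl
        change _ = e.symm (χ b) • (Submodule.Quotient.mk x : Q)
        rw [he]
        rfl
      change φ (Submodule.Quotient.mk (b • x)) = χ b * φ (Submodule.Quotient.mk x)
      rw [hbx]
      exact φ.map_smul (χ b) (Submodule.Quotient.mk x : Q)
    exact hφ (DFunLike.congr_fun hψ c)
  obtain ⟨r, hr, hr'⟩ := Submodule.exists_sub_one_mem_and_smul_eq_zero_of_fg_of_le_smul P ⊤
    Module.Finite.fg_top hle
  refine ⟨r, fun h0 => ?_, fun c => hr' c Submodule.mem_top⟩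
  have : χ (r - 1) = 0 := hr
  rw [map_sub, _root_.map_one, h0, zero_sub, neg_eq_zero] at this
  exact one_ne_zero this

variable {A : Type v} [CommRing A] [Algebra R A] {B : Type v} [CommRing B] [Algebra R B]
  [Algebra A B] [IsScalarTower R A B]

theorem isEtaleAt_of_ptDer [Algebra.Smooth R A] [Algebra.Smooth R B] {K : Type v} [Field K] [Algebra R K]
    (χ : B →ₐ[R] K) (hχ : Function.Surjective χ)
    (hinj : ∀ w : B →ₗ[R] K, IsPtDer χ w → (∀ a, w (algebraMap A B a) = 0) → w = 0)
    (hsurj : ∀ w₀ : A →ₗ[R] K, IsPtDer (χ.comp (IsScalarTower.toAlgHom R A B)) w₀ →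
      ∃ w : B →ₗ[R] K, IsPtDer χ w ∧ ∀ a, w (algebraMap A B a) = w₀ a)
    [(RingHom.ker χ).IsPrime] : Algebra.IsEtaleAt A (RingHom.ker χ) := by
  letI algBK : Algebra B K := χ.toRingHom.toAlgebra
  haveI : IsScalarTower R B K := IsScalarTower.of_algebraMap_eq fun r => (χ.commutes r).symm
  letI algAK : Algebra A K := (χ.comp (IsScalarTower.toAlgHom R A B)).toRingHom.toAlgebra
  haveI : IsScalarTower A B K := IsScalarTower.of_algebraMap_eq fun a => rfl
  haveI : IsScalarTower R A K := IsScalarTower.of_algebraMap_eq fun r =>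
    ((χ.comp (IsScalarTower.toAlgHom R A B)).commutes r).symm
  have hsmul : ∀ (b : B) (x : K), b • x = χ b * x := fun b x => Algebra.smul_def b x
  have hsmulA : ∀ (a : A) (x : K), a • x = χ (algebraMap A B a) * x := fun a x => Algebra.smul_def a x
  haveI : Algebra.FiniteType A B := Algebra.FiniteType.of_restrictScalars_finiteType R A B
  let f := KaehlerDifferential.mapBaseChange R A B
  -- the cokernel
  obtain ⟨g, hg, hgC⟩ := exists_smul_eq_zero (χ : B →+* K) hχ Ω[B⁄A] fun ψ hψ => by
    let Ψ : Ω[B⁄A] →ₗ[B] K := { ψ with map_smul' := fun b c => (hψ b c).trans (hsmul b _).symm }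
    let w : B →ₗ[R] K :=
      (Ψ.restrictScalars R).comp ((KaehlerDifferential.D A B).toLinearMap.restrictScalars R)
    have hw : w = 0 := hinj w (fun a b => by
        change Ψ (KaehlerDifferential.D A B (a * b)) = _
        rw [Derivation.leibniz, map_add, map_smul, map_smul, hsmul, hsmul]
        rfl) fun a => by
        change Ψ (KaehlerDifferential.D A B (algebraMap A B a)) = 0
        rw [Derivation.map_algebraMap, map_zero]
    have hΨ : Ψ = 0 := LinearMap.ext_on_range (KaehlerDifferential.span_range_derivation A B)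
      fun b => LinearMap.congr_fun hw b
    exact AddMonoidHom.ext fun c => LinearMap.congr_fun hΨ c
  have hrange : ∀ y, g • y ∈ LinearMap.range f := fun y =>
    (KaehlerDifferential.exact_mapBaseChange_map R A B (g • y)).1 (by rw [map_smul]; exact hgC _)
  obtain ⟨s, hs⟩ := Module.projective_lifting_property f.rangeRestrict
    ((g • LinearMap.id).codRestrict (LinearMap.range f) hrange) f.surjective_rangeRestrict
  have hfs : ∀ y, f (s y) = g • y := fun y => congrArg Subtype.val (LinearMap.congr_fun hs y)
  -- the kernel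
  let π : B ⊗[A] Ω[A⁄R] →ₗ[B] B ⊗[A] Ω[A⁄R] := g • LinearMap.id - s.comp f
  have hfπ : ∀ m, f (π m) = 0 := fun m => by
    simp [π, hfs]
  obtain ⟨g', hg', hgR⟩ := exists_smul_eq_zero (χ : B →+* K) hχ (LinearMap.range π) fun φ hφ => by
    let φ' : LinearMap.range π →ₗ[B] K :=
      { φ with map_smul' := fun b c => (hφ b c).trans (hsmul b _).symm }
    let Φ : B ⊗[A] Ω[A⁄R] →ₗ[B] K := φ'.comp π.rangeRestrict
    let w₀ : A →ₗ[R] K := (Φ.restrictScalars R).comp
      (((TensorProduct.mk A B Ω[A⁄R] 1).restrictScalars R).comp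
        (KaehlerDifferential.D R A).toLinearMap)
    obtain ⟨w, hw, hwφ⟩ := hsurj w₀ fun a b => by
      change Φ ((1 : B) ⊗ₜ[A] KaehlerDifferential.D R A (a * b)) = _
      rw [Derivation.leibniz, tmul_add, tmul_smul, tmul_smul, map_add, LinearMap.map_smul_of_tower,
        LinearMap.map_smul_of_tower, hsmulA, hsmulA]
      rfl
    let W : Derivation R B K := Derivation.mk' w fun a b => by
      rw [hsmul, hsmul]
      exact hw a b
    have hΦ : Φ = W.liftKaehlerDifferential.comp f := by
      refine TensorProduct.AlgebraTensorModule.curry_injective (LinearMap.ext_ring ?_)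
      refine LinearMap.ext_on_range (KaehlerDifferential.span_range_derivation R A) fun a => ?_
      change Φ ((1 : B) ⊗ₜ[A] KaehlerDifferential.D R A a) =
        W.liftKaehlerDifferential (f ((1 : B) ⊗ₜ[A] KaehlerDifferential.D R A a))
      rw [KaehlerDifferential.mapBaseChange_tmul, one_smul, KaehlerDifferential.map_D,
        Derivation.liftKaehlerDifferential_comp_D]
      exact (hwφ a).symm
    refine AddMonoidHom.ext fun r => ?_
    have hr0 : f (r : B ⊗[A] Ω[A⁄R]) = 0 := by
      obtain ⟨m, hm⟩ := r.2
      rw [← hm]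
      exact hfπ m
    have h1 : π.rangeRestrict (r : B ⊗[A] Ω[A⁄R]) = g • r := by
      refine Subtype.ext ?_
      change π (r : B ⊗[A] Ω[A⁄R]) = g • (r : B ⊗[A] Ω[A⁄R])
      simp [π, hr0]
    have h2 : φ' (g • r) = 0 := by
      rw [← h1]
      change Φ (r : B ⊗[A] Ω[A⁄R]) = 0
      rw [hΦ, LinearMap.comp_apply, hr0, map_zero]
    rw [map_smul, hsmul] at h2
    exact (mul_eq_zero.1 h2).resolve_left hg
  have hker : ∀ m, f m = 0 → (g' * g) • m = 0 := fun m hm => by
    have h1 : π m = g • m := by simp [π, hm]
    rw [mul_smul, ← h1]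
    exact congrArg Subtype.val (hgR ⟨π m, m, rfl⟩)
  -- conclusion
  show (⟨RingHom.ker χ, inferInstance⟩ : PrimeSpectrum B) ∈ Algebra.etaleLocus A B
  rw [Algebra.etaleLocus_eq_compl_support]
  refine ⟨Module.notMem_support_iff'.2 fun m => ⟨g, hg, hgC m⟩,
    Module.notMem_support_iff'.2 fun x => ⟨g' * g, fun h => ?_, ?_⟩⟩
  · have : χ (g' * g) = 0 := h
    rw [map_mul] at this
    exact mul_ne_zero hg' hg this
  · have hδ : Function.Injective (Algebra.H1Cotangent.δ R A B) := by
      rw [injective_iff_map_eq_zero]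
      intro y hy
      obtain ⟨z, rfl⟩ := (Algebra.H1Cotangent.exact_map_δ R A B y).1 hy
      rw [Subsingleton.elim z 0, map_zero]
    refine hδ ?_
    rw [map_zero, map_smul]
    exact hker _ (Algebra.H1Cotangent.exact_δ_mapBaseChange R A B _ |>.2 ⟨x, rfl⟩)

/-- The residue map of a maximal ideal, seen at a section. -/
noncomputable def resPt (e : B →ₐ[R] R) (m : Ideal R) : B →ₐ[R] R ⧸ m := (Ideal.Quotient.mkₐ R m).comp e

end Groth.L14.Chart

namespace Groth.L14.Chart

variable {R : Type u} [CommRing R] {A : Type u} [CommRing A] [Algebra R A] {B : Type u} [CommRing B]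
  [Algebra R B] [Algebra A B] [IsScalarTower R A B]

/-- A map bijective on derivations at the closed points of a section is étale near it. -/
theorem exists_etale_of_section [Algebra.Smooth R A] [Algebra.Smooth R B] (e : B →ₐ[R] R)
    (hinj : ∀ (m : Ideal R) [m.IsMaximal] (w : B →ₗ[R] R ⧸ m), IsPtDer (resPt e m) w →
      (∀ a, w (algebraMap A B a) = 0) → w = 0)
    (hsurj : ∀ (m : Ideal R) [m.IsMaximal] (w₀ : A →ₗ[R] R ⧸ m),
      IsPtDer ((resPt e m).comp (IsScalarTower.toAlgHom R A B)) w₀ →
      ∃ w : B →ₗ[R] R ⧸ m, IsPtDer (resPt e m) w ∧ ∀ a, w (algebraMap A B a) = w₀ a) :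
    ∃ f : B, e f = 1 ∧ Algebra.Etale A (Localization.Away f) := by
  haveI : Algebra.FinitePresentation A B :=
    Algebra.FinitePresentation.of_restrict_scalars_finitePresentation R A B
  obtain ⟨J, hJ⟩ := (PrimeSpectrum.isClosed_iff_zeroLocus_ideal _).1
    (Algebra.isOpen_etaleLocus (R := A) (A := B)).isClosed_compl
  have hes : Function.Surjective e := fun r => ⟨algebraMap R B r, e.commutes r⟩
  have htop : J.map e = ⊤ := by
    by_contra hne
    obtain ⟨m, hm, hle⟩ := Ideal.exists_le_maximal _ hne
    letI := Ideal.Quotient.field m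
    have hsur : Function.Surjective (resPt e m) := Ideal.Quotient.mk_surjective.comp hes
    haveI : (RingHom.ker (resPt e m)).IsPrime := RingHom.ker_isPrime _
    haveI := isEtaleAt_of_ptDer (K := R ⧸ m) (resPt e m) hsur (hinj m) (hsurj m)
    have hmem : (⟨RingHom.ker (resPt e m), inferInstance⟩ : PrimeSpectrum B) ∈ Algebra.etaleLocus A B := this
    have : (⟨RingHom.ker (resPt e m), inferInstance⟩ : PrimeSpectrum B) ∈ (Algebra.etaleLocus A B)ᶜ := by
      rw [hJ]
      intro b hb
      exact (Ideal.Quotient.eq_zero_iff_mem.2 (hle (Ideal.mem_map_of_mem e hb)) : resPt e m b = 0)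
    exact this hmem
  obtain ⟨f, hfJ, hf⟩ := (Ideal.mem_map_iff_of_surjective e hes).1 (htop ▸ Submodule.mem_top (x := (1 : R)))
  refine ⟨f, hf, Algebra.basicOpen_subset_etaleLocus_iff_etale.1 fun p hp => ?_⟩
  by_contra h
  have : p ∈ PrimeSpectrum.zeroLocus (J : Set B) := hJ ▸ h
  exact hp (this hfJ)

/-- Points infinitesimally near to a section along which the map is étale lift uniquely. -/
theorem existsUnique_lift (e : B →ₐ[R] R) {f : B} (hf : e f = 1) [Algebra.Etale A (Localization.Away f)]
    {C : Type u} [CommRing C] [Algebra R C] (I : Ideal C) (hI : IsNilpotent I) (φ : A →ₐ[R] C)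
    (hφ : ∀ a, φ a - algebraMap R C (e (algebraMap A B a)) ∈ I) :
    ∃! χ : B →ₐ[R] C, (∀ b, χ b - algebraMap R C (e b) ∈ I) ∧ ∀ a, χ (algebraMap A B a) = φ a := by
  letI : Algebra A C := φ.toRingHom.toAlgebra
  haveI : IsScalarTower R A C := IsScalarTower.of_algebraMap_eq fun r => (φ.commutes r).symm
  let mk := Ideal.Quotient.mk I
  have hmk : ∀ {x y : C}, x - y ∈ I → mk x = mk y := fun h => Ideal.Quotient.eq.2 h
  let ē : B →+* C ⧸ I := mk.comp ((algebraMap R C).comp e.toRingHom)
  have hēf : IsUnit (ē f) := by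
    have : ē f = 1 := by
      simp only [ē, RingHom.comp_apply]
      rw [show e.toRingHom f = 1 from hf, map_one, map_one]
    rw [this]
    exact isUnit_one
  let g : Localization.Away f →ₐ[A] C ⧸ I :=
    { IsLocalization.Away.lift f hēf with
      commutes' := fun a => by
        rw [IsScalarTower.algebraMap_apply A B (Localization.Away f)]
        change IsLocalization.Away.lift f hēf (algebraMap B _ _) = _
        rw [IsLocalization.Away.lift_eq]
        exact (hmk (hφ a)).symm }
  let l : Localization.Away f →ₐ[A] C := Algebra.FormallySmooth.lift I hI g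
  let χ : B →ₐ[R] C := (l.restrictScalars R).comp (IsScalarTower.toAlgHom R B _)
  have hχA : ∀ a, χ (algebraMap A B a) = φ a := fun a => by
    change l (algebraMap B _ (algebraMap A B a)) = _
    rw [← IsScalarTower.algebraMap_apply]
    exact l.commutes a
  have hχI : ∀ b, χ b - algebraMap R C (e b) ∈ I := fun b => by
    refine Ideal.Quotient.eq.1 ((Algebra.FormallySmooth.mk_lift I hI g _).trans ?_)
    exact IsLocalization.Away.lift_eq f hēf b
  refine ⟨χ, ⟨hχI, hχA⟩, fun χ' h' => AlgHom.ext fun b => ?_⟩
  have hu : IsUnit (χ' f) := by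
    have hn : IsNilpotent (χ' f - 1) := by
      obtain ⟨n, hn⟩ := hI
      refine ⟨n, ?_⟩
      have h1 : χ' f - 1 ∈ I := by simpa [hf] using h'.1 f
      have h2 := Ideal.pow_mem_pow h1 n
      rw [hn] at h2
      exact h2
    simpa using hn.isUnit_add_one
  let l' : Localization.Away f →ₐ[A] C :=
    { IsLocalization.Away.lift f (g := χ'.toRingHom) hu with
      commutes' := fun a => by
        rw [IsScalarTower.algebraMap_apply A B (Localization.Away f)]
        change IsLocalization.Away.lift f (g := χ'.toRingHom) hu (algebraMap B _ _) = _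
        rw [IsLocalization.Away.lift_eq]
        exact h'.2 a }
  have hl : ∀ b', l' (algebraMap B (Localization.Away f) b') = χ' b' :=
    fun b' => IsLocalization.Away.lift_eq f (g := χ'.toRingHom) hu b'
  have hmkl : mk.comp (l' : Localization.Away f →+* C) = mk.comp (l : Localization.Away f →+* C) := by
    refine IsLocalization.ringHom_ext (Submonoid.powers f) (RingHom.ext fun b' => ?_)
    simp only [RingHom.comp_apply, RingHom.coe_coe]
    exact (congrArg mk (hl b')).trans (hmk ((by
      simpa using sub_mem (h'.1 b') (hχI b') : χ' b' - χ b' ∈ I)))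
  have hll : l' = l := Algebra.FormallyUnramified.ext I hI fun x => RingHom.congr_fun hmkl x
  calc χ' b = l' (algebraMap B (Localization.Away f) b) := (hl b).symm
    _ = χ b := by rw [hll]; rfl

end Groth.L14.Chart
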