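import Groth.Agent.L14.Chart.Near
import Mathlib.RingTheory.MvPolynomial.Ideal
import Mathlib.RingTheory.Ideal.Quotient.Operations

/-!
A family of points of a split group in two variables which is equivariant for the torus and trivial on the axes is an
ordered product of root points with monomial coordinates.
-/

set_option autoImplicit false
universe u

open CategoryTheory CategoryTheory.Limits AlgebraicGeometry MonoidalCategory CartesianMonoidalCategory MonObj
open Groth.L14.RankOne

set_option backward.isDefEq.respectTransparency.types false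
set_option linter.style.haveILetI false

noncomputable section

namespace Groth.L14.Chart

open MvPolynomial (idealOfVars)

variable (R : Type u) [CommRing R]

/-- Polynomials in two variables. -/
abbrev Poly : Type u := MvPolynomial (Fin 2) R

/-- Truncated polynomials. -/
def Trunc (N : ℕ) : Type u := Poly R ⧸ (idealOfVars (Fin 2) R ^ N)

instance instCommRingTrunc (N : ℕ) : CommRing (Trunc R N) := Ideal.Quotient.commRing _

instance instAlgebraTrunc (N : ℕ) : Algebra R (Trunc R N) := Ideal.instAlgebraQuotient R _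

/-- The quotient map. -/
def toTrunc (N : ℕ) : Poly R →ₐ[R] Trunc R N := Ideal.Quotient.mkₐ R _

/-- The ideal of the variables in truncated polynomials. -/
def truncIdeal (N : ℕ) : Ideal (Trunc R N) := (idealOfVars (Fin 2) R).map (toTrunc R N)

variable {R}

theorem toTrunc_surjective (N : ℕ) : Function.Surjective (toTrunc R N) := Ideal.Quotient.mk_surjective

theorem toTrunc_eq_zero_iff {N : ℕ} {p : Poly R} : toTrunc R N p = 0 ↔ p ∈ idealOfVars (Fin 2) R ^ N :=
  Ideal.Quotient.eq_zero_iff_mem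

theorem isNilpotent_truncIdeal (N : ℕ) : IsNilpotent (truncIdeal R N) := by
  refine ⟨N, ?_⟩
  rw [truncIdeal, ← Ideal.map_pow, Ideal.zero_eq_bot, eq_bot_iff, Ideal.map_le_iff_le_comap]
  exact fun p hp => toTrunc_eq_zero_iff.2 hp

theorem map_truncIdeal_le {N : ℕ} {C : Type u} [CommRing C] [Algebra R C] (f : Trunc R N →ₐ[R] C) {I : Ideal C}
    (h : ∀ i, f (toTrunc R N (MvPolynomial.X i)) ∈ I) : (truncIdeal R N).map f.toRingHom ≤ I := by
  rw [Ideal.map_le_iff_le_comap, truncIdeal, Ideal.map_le_iff_le_comap, idealOfVars, Ideal.span_le]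
  rintro _ ⟨i, rfl⟩
  exact h i

theorem toTrunc_X_mem (N : ℕ) (i : Fin 2) : toTrunc R N (MvPolynomial.X i) ∈ truncIdeal R N :=
  Ideal.mem_map_of_mem _ (Ideal.subset_span ⟨i, rfl⟩)

/-- A truncation of a truncation. -/
def lower {N N' : ℕ} (h : N ≤ N') : Trunc R N' →ₐ[R] Trunc R N :=
  Ideal.Quotient.factorₐ R (Ideal.pow_le_pow_right h)

theorem lower_toTrunc {N N' : ℕ} (h : N ≤ N') (p : Poly R) : lower h (toTrunc R N' p) = toTrunc R N p :=
  DFunLike.congr_fun (Ideal.Quotient.factorₐ_comp_mk R (Ideal.pow_le_pow_right h)) p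

theorem lower_comp {N N' : ℕ} (h : N ≤ N') : (lower h).comp (toTrunc R N') = toTrunc R N :=
  AlgHom.ext (lower_toTrunc h)

theorem lower_surjective {N N' : ℕ} (h : N ≤ N') : Function.Surjective (lower (R := R) h) := fun z => by
  obtain ⟨p, rfl⟩ := toTrunc_surjective _ z
  exact ⟨toTrunc R N' p, lower_toTrunc h p⟩

theorem ker_lower_le (N : ℕ) :
    RingHom.ker (lower (R := R) (min_le_left N 1)) ≤ truncIdeal R N := fun z hz => by
  obtain ⟨p, rfl⟩ := toTrunc_surjective _ z
  have hp : p ∈ idealOfVars (Fin 2) R ^ min N 1 :=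
    toTrunc_eq_zero_iff.1 ((lower_toTrunc (min_le_left N 1) p).symm.trans hz)
  rcases Nat.eq_zero_or_pos N with h | h
  · subst h
    have : Subsingleton (Trunc R 0) := Ideal.Quotient.subsingleton_iff.2 (pow_zero _ |>.trans Ideal.one_eq_top)
    rw [Subsingleton.elim (toTrunc R 0 p) 0]
    exact Submodule.zero_mem _
  · rw [Nat.min_eq_right h, pow_one] at hp
    exact Ideal.mem_map_of_mem _ hp

theorem toTrunc_monomial_eq_zero {N : ℕ} {ν : Fin 2 →₀ ℕ} (h : N ≤ ν.degree) (r : R) :
    toTrunc R N (MvPolynomial.monomial ν r) = 0 := by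
  classical
  refine toTrunc_eq_zero_iff.2 ((MvPolynomial.mem_pow_idealOfVars_iff' _ _).2 fun x hx => ?_)
  rw [MvPolynomial.coeff_monomial, if_neg]
  rintro rfl
  omega

theorem coeff_eq_of_toTrunc {N : ℕ} {p q : Poly R} (h : toTrunc R N p = toTrunc R N q) {ν : Fin 2 →₀ ℕ}
    (hν : ν.degree < N) : p.coeff ν = q.coeff ν := by
  have := (MvPolynomial.mem_pow_idealOfVars_iff' _ _).1
    (toTrunc_eq_zero_iff.1 (show toTrunc R N (p - q) = 0 by rw [map_sub, h, sub_self])) ν hν
  rwa [MvPolynomial.coeff_sub, sub_eq_zero] at this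

theorem eq_of_forall_toTrunc {p q : Poly R} (h : ∀ N, toTrunc R N p = toTrunc R N q) : p = q :=
  MvPolynomial.ext _ _ fun ν => coeff_eq_of_toTrunc (h (ν.degree + 1)) (Nat.lt_succ_self _)

section Twist

variable {M : Type} [AddCommGroup M] (a b : M)

/-- The weight of a monomial. -/
def wt (ν : Fin 2 →₀ ℕ) : Multiplicative M := Multiplicative.ofAdd (ν 0 • a + ν 1 • b)

/-- Twisting the variables by characters. -/
def twistPoly (N : ℕ) : Poly R →ₐ[R] MonoidAlgebra (Trunc R N) (Multiplicative M) :=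
  MvPolynomial.aeval ![MonoidAlgebra.single (Multiplicative.ofAdd a) (toTrunc R N (MvPolynomial.X 0)),
    MonoidAlgebra.single (Multiplicative.ofAdd b) (toTrunc R N (MvPolynomial.X 1))]

theorem twistPoly_monomial (N : ℕ) (ν : Fin 2 →₀ ℕ) (r : R) :
    twistPoly a b N (MvPolynomial.monomial ν r) =
      MonoidAlgebra.single (wt a b ν) (toTrunc R N (MvPolynomial.monomial ν r)) := by
  classical
  have h1 : MvPolynomial.monomial ν r =
      MvPolynomial.C r * (MvPolynomial.X 0 ^ ν 0 * MvPolynomial.X 1 ^ ν 1) := by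
    rw [MvPolynomial.monomial_eq, Finsupp.prod_fintype _ _ (fun i => pow_zero _), Fin.prod_univ_two]
  rw [h1, map_mul, map_mul, map_mul, map_mul, map_pow, map_pow, map_pow, map_pow]
  simp only [twistPoly, MvPolynomial.aeval_X, MvPolynomial.aeval_C, Matrix.cons_val_zero, Matrix.cons_val_one,
    MonoidAlgebra.single_pow, MonoidAlgebra.single_mul_single, MonoidAlgebra.coe_algebraMap, Function.comp_apply]
  refine congrArg₂ MonoidAlgebra.single ?_ ?_
  · rw [_root_.one_mul, wt, ← ofAdd_nsmul, ← ofAdd_nsmul, ← ofAdd_add]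
  · rfl

theorem twistPoly_eq_zero {N : ℕ} {p : Poly R} (hp : p ∈ idealOfVars (Fin 2) R ^ N) : twistPoly a b N p = 0 := by
  rw [p.as_sum, map_sum]
  refine Finset.sum_eq_zero fun ν hν => ?_
  rw [twistPoly_monomial, toTrunc_monomial_eq_zero ((MvPolynomial.mem_pow_idealOfVars_iff _ _).1 hp ν hν),
    MonoidAlgebra.single_zero]

/-- The twist of truncated polynomials. -/
def twist (N : ℕ) : Trunc R N →ₐ[R] MonoidAlgebra (Trunc R N) (Multiplicative M) :=
  Ideal.Quotient.liftₐ _ (twistPoly a b N) fun _ hp => twistPoly_eq_zero a b hp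

theorem twist_toTrunc (N : ℕ) (p : Poly R) : twist a b N (toTrunc R N p) = twistPoly a b N p :=
  Ideal.Quotient.lift_mk _ _ _

/-- Setting a variable to zero. -/
def killPoly (i : Fin 2) : Poly R →ₐ[R] Poly R := MvPolynomial.aeval fun k => if k = i then 0 else MvPolynomial.X k

theorem killPoly_monomial (i : Fin 2) (ν : Fin 2 →₀ ℕ) (r : R) :
    killPoly i (MvPolynomial.monomial ν r) = if ν i = 0 then MvPolynomial.monomial ν r else 0 := by
  classical
  rw [killPoly, MvPolynomial.aeval_monomial, MvPolynomial.monomial_eq (s := ν)]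
  split_ifs with h
  · refine congrArg (_ * ·) (Finset.prod_congr rfl fun k hk => ?_)
    have : k ≠ i := fun e => Finsupp.mem_support_iff.1 hk (e ▸ h)
    simp [this]
  · rw [Finsupp.prod, Finset.prod_eq_zero (Finsupp.mem_support_iff.2 h) (by simp [h]), mul_zero]

theorem killPoly_mem {i : Fin 2} {N : ℕ} {p : Poly R} (hp : p ∈ idealOfVars (Fin 2) R ^ N) :
    killPoly i p ∈ idealOfVars (Fin 2) R ^ N := by
  rw [p.as_sum, map_sum]
  refine Submodule.sum_mem _ fun ν hν => ?_
  rw [killPoly_monomial]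
  split_ifs
  · exact toTrunc_eq_zero_iff.1
      (toTrunc_monomial_eq_zero ((MvPolynomial.mem_pow_idealOfVars_iff _ _).1 hp ν hν) _)
  · exact Submodule.zero_mem _

/-- Setting a variable to zero in truncated polynomials. -/
def kill (i : Fin 2) (N : ℕ) : Trunc R N →ₐ[R] Trunc R N :=
  Ideal.Quotient.liftₐ _ ((toTrunc R N).comp (killPoly i)) fun _ hp =>
    toTrunc_eq_zero_iff.2 (killPoly_mem hp)

theorem kill_toTrunc (i : Fin 2) (N : ℕ) (p : Poly R) : kill i N (toTrunc R N p) = toTrunc R N (killPoly i p) :=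
  Ideal.Quotient.lift_mk _ _ _

/-- A homogeneous element killed on both axes only involves mixed monomials of its weight. -/
theorem exists_eq_sum_monomial {N : ℕ} (z : Trunc R N) (k : Multiplicative M)
    (htw : MonoidAlgebra.single k z = twist a b N z) (h0 : kill 0 N z = 0) (h1 : kill 1 N z = 0) :
    ∃ p : Poly R, toTrunc R N p = z ∧ ∀ ν ∈ p.support, 1 ≤ ν 0 ∧ 1 ≤ ν 1 ∧ wt a b ν = k := by
  classical
  obtain ⟨p, rfl⟩ := toTrunc_surjective _ z
  let sel (P : (Fin 2 →₀ ℕ) → Prop) [DecidablePred P] (q : Poly R) : Poly R :=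
    ∑ ν ∈ q.support.filter P, MvPolynomial.monomial ν (q.coeff ν)
  have hsel : ∀ (P : (Fin 2 →₀ ℕ) → Prop) [DecidablePred P] (q : Poly R) (ν : Fin 2 →₀ ℕ),
      (sel P q).coeff ν = if P ν then q.coeff ν else 0 := fun P _ q ν => by
    simp only [sel, MvPolynomial.coeff_sum, MvPolynomial.coeff_monomial, Finset.sum_ite_eq', Finset.mem_filter,
      MvPolynomial.mem_support_iff]
    by_cases hP : P ν <;> by_cases hq : q.coeff ν = 0 <;> simp [hP, hq]
  let p1 := sel (fun ν => wt a b ν = k) p
  have e1 : toTrunc R N p1 = toTrunc R N p := by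
    have h := congrArg (fun q : MonoidAlgebra (Trunc R N) (Multiplicative M) => q.coeff k) htw
    rw [twist_toTrunc] at h
    conv_rhs at h => rw [p.as_sum, map_sum]
    simp only [twistPoly_monomial, MonoidAlgebra.coeff_single, Finsupp.single_eq_same, MonoidAlgebra.coeff_sum,
      Finsupp.finsetSum_apply, Finsupp.single_apply] at h
    rw [h, show p1 = _ from rfl, map_sum, Finset.sum_filter]
  have hk : ∀ (i : Fin 2) (q : Poly R), killPoly i q = sel (fun ν => ν i = 0) q := fun i q => by
    conv_lhs => rw [q.as_sum, map_sum]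
    simp only [killPoly_monomial, sel, Finset.sum_filter]
  let p2 := p1 - killPoly 0 p1
  have e2 : toTrunc R N p2 = toTrunc R N p := by
    rw [map_sub, ← kill_toTrunc, e1, h0, sub_zero]
  let p3 := p2 - killPoly 1 p2
  refine ⟨p3, by rw [map_sub, ← kill_toTrunc, e2, h1, sub_zero], fun ν hν => ?_⟩
  rw [MvPolynomial.mem_support_iff] at hν
  simp only [p3, p2, p1, MvPolynomial.coeff_sub, hk, hsel] at hν
  by_cases c0 : ν 0 = 0
  · simp [c0] at hν
  by_cases c1 : ν 1 = 0
  · simp [c1] at hν
  by_cases ck : wt a b ν = k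
  · exact ⟨by omega, by omega, ck⟩
  · simp [c0, c1, ck] at hν

end Twist

variable {S : Scheme.{u}} {G : Over S} [GrpObj G] {D : Red.SplitRed G}
  (j : Spec (CommRingCat.of R) ⟶ S)
  {v : D.idx → (Red.Ga S ⟶ G)} {l : List D.idx}

/-- A family in two variables evaluated at two elements. -/
def evalF (g : Sp j (Poly R) ⟶ G) {C : Type u} [CommRing C] [Algebra R C] (x y : C) : Sp j C ⟶ G :=
  mor j (MvPolynomial.aeval ![x, y]) ≫ g

omit [GrpObj G] in
theorem mor_evalF (g : Sp j (Poly R) ⟶ G) {C C' : Type u} [CommRing C] [Algebra R C] [CommRing C'] [Algebra R C']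
    (h : C →ₐ[R] C') (x y : C) : mor j h ≫ evalF j g x y = evalF j g (h x) (h y) := by
  rw [evalF, evalF, ← Category.assoc, ← mor_comp, MvPolynomial.comp_aeval]
  congr 3
  funext i
  fin_cases i <;> rfl

omit [GrpObj G] in
theorem evalF_X (g : Sp j (Poly R) ⟶ G) : evalF j g (MvPolynomial.X 0) (MvPolynomial.X 1) = g := by
  have h : (MvPolynomial.aeval ![MvPolynomial.X 0, MvPolynomial.X 1] : Poly R →ₐ[R] Poly R) = AlgHom.id R _ := by
    refine MvPolynomial.algHom_ext fun i => ?_
    fin_cases i <;> simp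
  rw [evalF, h, mor_id, Category.id_comp]

omit [GrpObj G] in
theorem mor_comp_g (g : Sp j (Poly R) ⟶ G) {C : Type u} [CommRing C] [Algebra R C] (h : Poly R →ₐ[R] C) :
    mor j h ≫ g = evalF j g (h (MvPolynomial.X 0)) (h (MvPolynomial.X 1)) := by
  rw [← mor_evalF, evalF_X]

variable [IsOpenImmersion j]
  (hv : ∀ c, Red.IsRootHom D.i (D.split.hom.hom.hom ≫ Red.chi S (D.P.root c)) (v c))

include hv in
theorem exists_trunc_coord (hl : l.Nodup) (hmem : ∀ c, c ∈ l) (g : Sp j (Poly R) ⟶ G)
    (hx : ∀ (C : Type u) [CommRing C] [Algebra R C] (x : C), evalF j g x 0 = 1) (N : ℕ) :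
    ∃ d : Coord D (Trunc R N), d.IsNear (truncIdeal R N) ∧ chart j v l d = mor j (toTrunc R N) ≫ g := by
  have hnil : IsNilpotent (RingHom.ker (lower (R := R) (min_le_left N 1))) := by
    obtain ⟨n, hn⟩ := isNilpotent_truncIdeal (R := R) N
    exact ⟨n, le_bot_iff.1 ((Ideal.pow_right_mono (ker_lower_le N) n).trans hn.le)⟩
  have h0 : lower (min_le_left N 1) (toTrunc R N (MvPolynomial.X 1)) = 0 := by
    rw [lower_toTrunc, toTrunc_eq_zero_iff]
    rcases Nat.eq_zero_or_pos N with h | h
    · subst h; simp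
    · rw [Nat.min_eq_right h, pow_one]
      exact Ideal.subset_span ⟨1, rfl⟩
  obtain ⟨d, hd, hdg⟩ := exists_coord_of_surjective j hv hl hmem (lower (min_le_left N 1))
    (lower_surjective _) hnil (mor j (toTrunc R N) ≫ g) (by rw [mor_comp_g j g (toTrunc R N), mor_evalF, h0, hx])
  exact ⟨d, ⟨fun m => ker_lower_le N (hd.1 m), fun c => ker_lower_le N (hd.2 c)⟩, hdg⟩

include hv in
theorem twist_coord (hl : l.Nodup) (hmem : ∀ c, c ∈ l) (a b : D.M) (g : Sp j (Poly R) ⟶ G)
    (hequiv : ∀ (C : Type u) [CommRing C] [Algebra R C] (χ : Multiplicative D.M →* C) (x y : C),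
      (tpt D j χ ≫ D.i) * evalF j g x y * (tpt D j χ ≫ D.i)⁻¹ =
        evalF j g (χ (Multiplicative.ofAdd a) * x) (χ (Multiplicative.ofAdd b) * y))
    {N : ℕ} {d : Coord D (Trunc R N)} (hd : d.IsNear (truncIdeal R N))
    (hdg : chart j v l d = mor j (toTrunc R N) ≫ g) :
    (d.map (IsScalarTower.toAlgHom R (Trunc R N) (MonoidAlgebra (Trunc R N) (Multiplicative D.M))).toRingHom).act
      (MonoidAlgebra.of (Trunc R N) (Multiplicative D.M)) = d.map (twist a b N).toRingHom := by
  let C' := MonoidAlgebra (Trunc R N) (Multiplicative D.M)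
  let inc : Trunc R N →ₐ[R] C' := IsScalarTower.toAlgHom R _ _
  have hnil : IsNilpotent ((truncIdeal R N).map inc.toRingHom) := by
    obtain ⟨n, hn⟩ := isNilpotent_truncIdeal (R := R) N
    refine ⟨n, (Ideal.map_pow inc.toRingHom (truncIdeal R N) n).symm.trans ?_⟩
    rw [hn]
    exact Ideal.map_bot
  have h1 : (truncIdeal R N).map (twist a b N).toRingHom ≤ (truncIdeal R N).map inc.toRingHom := by
    refine map_truncIdeal_le _ fun i => ?_
    have h2 : twist a b N (toTrunc R N (MvPolynomial.X i)) =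
        MonoidAlgebra.of _ _ (wt a b (Finsupp.single i 1)) * inc (toTrunc R N (MvPolynomial.X i)) := by
      rw [MvPolynomial.X, twist_toTrunc, twistPoly_monomial]
      simp [inc, C', MonoidAlgebra.coe_algebraMap]
    rw [h2]
    exact Ideal.mul_mem_left _ _ (Ideal.mem_map_of_mem _ (toTrunc_X_mem N i))
  refine coord_unique j hv hl hmem hnil ((hd.map inc.toRingHom le_rfl).act _) (hd.map _ h1) ?_
  show chart j v l ((d.map inc.toRingHom).act _) = chart j v l _
  rw [← conj_chart j hv, ← mor_chart, ← mor_chart, hdg, mor_comp_g j g (toTrunc R N), mor_evalF, mor_evalF, hequiv]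
  congr 1 <;> simp [inc, C', twist_toTrunc, twistPoly, MonoidAlgebra.coe_algebraMap]

include hv in
theorem kill_coord (hl : l.Nodup) (hmem : ∀ c, c ∈ l) (g : Sp j (Poly R) ⟶ G)
    (hx : ∀ (C : Type u) [CommRing C] [Algebra R C] (x : C), evalF j g x 0 = 1)
    (hy : ∀ (C : Type u) [CommRing C] [Algebra R C] (y : C), evalF j g 0 y = 1)
    {N : ℕ} {d : Coord D (Trunc R N)} (hd : d.IsNear (truncIdeal R N))
    (hdg : chart j v l d = mor j (toTrunc R N) ≫ g) (i : Fin 2) :
    d.map (kill i N).toRingHom = Coord.zero D (Trunc R N) := by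
  haveI : ∀ c, IsMonHom (v c) := fun c => (hv c).1
  have h1 : (truncIdeal R N).map (kill i N).toRingHom ≤ truncIdeal R N := by
    refine map_truncIdeal_le _ fun k => ?_
    rw [kill_toTrunc, killPoly, MvPolynomial.aeval_X]
    split_ifs
    · rw [map_zero]; exact Submodule.zero_mem _
    · exact toTrunc_X_mem N k
  refine coord_unique j hv hl hmem (isNilpotent_truncIdeal N) (hd.map _ h1) (Coord.isNear_zero _) ?_
  rw [chart_zero, ← mor_chart, hdg, mor_comp_g j g (toTrunc R N), mor_evalF, kill_toTrunc, kill_toTrunc]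
  fin_cases i
  · simpa [killPoly] using hy _ (toTrunc R N (MvPolynomial.X 1))
  · simpa [killPoly] using hx _ (toTrunc R N (MvPolynomial.X 0))

include hv in
theorem exists_expansion (hl : l.Nodup) (hmem : ∀ c, c ∈ l) (a b : D.M) (g : Sp j (Poly R) ⟶ G)
    (hequiv : ∀ (C : Type u) [CommRing C] [Algebra R C] (χ : Multiplicative D.M →* C) (x y : C),
      (tpt D j χ ≫ D.i) * evalF j g x y * (tpt D j χ ≫ D.i)⁻¹ =
        evalF j g (χ (Multiplicative.ofAdd a) * x) (χ (Multiplicative.ofAdd b) * y))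
    (hx : ∀ (C : Type u) [CommRing C] [Algebra R C] (x : C), evalF j g x 0 = 1)
    (hy : ∀ (C : Type u) [CommRing C] [Algebra R C] (y : C), evalF j g 0 y = 1)
    (hne : ∀ i k : ℕ, 1 ≤ i → 1 ≤ k → i • a + k • b ≠ 0)
    (e : D.idx → ℕ × ℕ) (he : ∀ c (i k : ℕ), 1 ≤ i → 1 ≤ k → D.P.root c = i • a + k • b → e c = (i, k)) :
    ∃ K : D.idx → R, (∀ c, K c ≠ 0 → 1 ≤ (e c).1 ∧ 1 ≤ (e c).2 ∧ D.P.root c = (e c).1 • a + (e c).2 • b) ∧
      ∀ (C : Type u) [CommRing C] [Algebra R C] (x y : C),
        evalF j g x y = rootProd j v l (fun c => algebraMap R C (K c) * x ^ (e c).1 * y ^ (e c).2) := by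
  classical
  haveI := reductive_affine D
  haveI : ∀ c, IsMonHom (v c) := fun c => (hv c).1
  let M' := Multiplicative D.M
  let mon : ℕ × ℕ → (Fin 2 →₀ ℕ) := fun p => Finsupp.single 0 p.1 + Finsupp.single 1 p.2
  have hmon0 : ∀ p, mon p 0 = p.1 := fun p => by simp [mon]
  have hmon1 : ∀ p, mon p 1 = p.2 := fun p => by simp [mon]
  choose d hd hdg using exists_trunc_coord j hv hl hmem g hx
  have htw := fun N => twist_coord j hv hl hmem a b g hequiv (hd N) (hdg N)
  have hkill := fun N i => kill_coord j hv hl hmem g hx hy (hd N) (hdg N) i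
  have hco : ∀ N c, ∃ p : Poly R, toTrunc R N p = (d N).co c ∧
      ∀ ν ∈ p.support, ν = mon (e c) ∧ 1 ≤ (e c).1 ∧ 1 ≤ (e c).2 ∧ D.P.root c = (e c).1 • a + (e c).2 • b := by
    intro N c
    obtain ⟨p, hp, hν⟩ := exists_eq_sum_monomial a b ((d N).co c) (Multiplicative.ofAdd (D.P.root c))
      (by
        have := congrFun (congrArg Coord.co (htw N)) c
        refine Eq.trans ?_ this
        show _ = MonoidAlgebra.of _ _ _ * algebraMap _ _ ((d N).co c)
        simp [MonoidAlgebra.coe_algebraMap, M'])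
      (congrFun (congrArg Coord.co (hkill N 0)) c) (congrFun (congrArg Coord.co (hkill N 1)) c)
    refine ⟨p, hp, fun ν hm => ?_⟩
    obtain ⟨h0, h1, hw⟩ := hν ν hm
    have hroot : D.P.root c = ν 0 • a + ν 1 • b := (Multiplicative.ofAdd.injective hw).symm
    have hec := he c _ _ h0 h1 hroot
    refine ⟨Finsupp.ext fun i => ?_, ?_⟩
    · fin_cases i
      · simp [hmon0, hec]
      · simp [hmon1, hec]
    · rw [hec]
      exact ⟨h0, h1, hroot⟩
  have htor : ∀ N, (d N).tor = 1 := fun N => by
    refine MonoidHom.ext fun m => sub_eq_zero.1 ?_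
    show (d N).tor m - 1 = 0
    obtain ⟨p, hp, hν⟩ := exists_eq_sum_monomial a b ((d N).tor m - 1) (1 : M')
      (by
        have := DFunLike.congr_fun (congrArg Coord.tor (htw N)) m
        rw [map_sub, map_one, ← show _ = twist a b N ((d N).tor m) from this]
        show _ = algebraMap _ (MonoidAlgebra (Trunc R N) M') ((d N).tor m) - 1
        rw [MonoidAlgebra.single_sub, MonoidAlgebra.one_def]
        simp [MonoidAlgebra.coe_algebraMap])
      (by rw [map_sub, map_one, show kill 0 N ((d N).tor m) = 1 from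
        DFunLike.congr_fun (congrArg Coord.tor (hkill N 0)) m, sub_self])
      (by rw [map_sub, map_one, show kill 1 N ((d N).tor m) = 1 from
        DFunLike.congr_fun (congrArg Coord.tor (hkill N 1)) m, sub_self])
    rw [← hp, p.as_sum, map_sum]
    refine Finset.sum_eq_zero fun ν hm => ?_
    obtain ⟨h0, h1, hw⟩ := hν ν hm
    exact absurd (Multiplicative.ofAdd.injective hw) (hne _ _ h0 h1)
  choose p hp hsupp using hco
  let N₀ := (Finset.univ.sup fun c => (e c).1 + (e c).2) + 1
  let K : D.idx → R := fun c => (p N₀ c).coeff (mon (e c))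
  have hpN : ∀ N c, p N c = MvPolynomial.monomial (mon (e c)) ((p N c).coeff (mon (e c))) := fun N c => by
    refine MvPolynomial.ext _ _ fun ν => ?_
    rw [MvPolynomial.coeff_monomial]
    split_ifs with h
    · rw [h]
    · by_contra hne'
      exact h (hsupp N c ν (MvPolynomial.mem_support_iff.2 hne')).1.symm
  -- compatibility of the truncations
  have hcompat : ∀ N N', N ≤ N' → ∀ c, toTrunc R N (p N' c) = toTrunc R N (p N c) := by
    intro N N' hle c
    let q : Trunc R N' →ₐ[R] Trunc R N := lower hle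
    have hq : q.comp (toTrunc R N') = toTrunc R N := lower_comp hle
    have hnear : (truncIdeal R N').map q.toRingHom ≤ truncIdeal R N :=
      map_truncIdeal_le q fun i => by rw [lower_toTrunc]; exact toTrunc_X_mem N i
    have heq : (d N').map q.toRingHom = d N :=
      coord_unique j hv hl hmem (isNilpotent_truncIdeal N) ((hd N').map _ hnear) (hd N) (by
        rw [← mor_chart, hdg, hdg, ← Category.assoc, ← mor_comp, hq])
    rw [hp N c, ← heq, ← hq]
    show q (toTrunc R N' (p N' c)) = q ((d N').co c)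
    rw [hp]
  have hK : ∀ N c, (d N).co c = toTrunc R N (MvPolynomial.monomial (mon (e c)) (K c)) := fun N c => by
    rw [← hp N c, ← hcompat N (max N N₀) (le_max_left _ _) c]
    have h1 : (p (max N N₀) c).coeff (mon (e c)) = K c := by
      refine coeff_eq_of_toTrunc (hcompat N₀ (max N N₀) (le_max_right _ _) c) ?_
      simp only [mon, map_add, Finsupp.degree_single, N₀]
      exact Nat.lt_succ_of_le (Finset.le_sup (f := fun c => (e c).1 + (e c).2) (Finset.mem_univ c))
    conv_lhs => rw [hpN, h1]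
  refine ⟨K, fun c hc => (hsupp N₀ c _ (MvPolynomial.mem_support_iff.2 hc)).2, fun C _ _ x y => ?_⟩
  have huniv : g = rootProd j v l (fun c => MvPolynomial.monomial (mon (e c)) (K c)) := by
    refine ptEquiv.symm.injective (AlgHom.ext fun z => eq_of_forall_toTrunc fun N => ?_)
    rw [← AlgHom.comp_apply, ← AlgHom.comp_apply, ← ptEquiv_symm_comp, ← ptEquiv_symm_comp, mor_rootProd, ← hdg]
    congr 2
    rw [show d N = (⟨1, fun c => toTrunc R N (MvPolynomial.monomial (mon (e c)) (K c))⟩ : Coord D _) from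
      Coord.ext (htor N) (funext (hK N)), chart_one_tor]
  rw [evalF, huniv, mor_rootProd]
  congr 1
  funext c
  rw [MvPolynomial.aeval_monomial, Finsupp.prod_fintype _ _ (fun i => pow_zero _), Fin.prod_univ_two, hmon0, hmon1]
  simp
  ring

end Groth.L14.Chart
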