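import Groth.Agent.L14.Chart.Tangent
import Mathlib.LinearAlgebra.Dimension.Finite
import Mathlib.FieldTheory.IsAlgClosed.AlgebraicClosure

/-!
Points of a split group infinitesimally near to the identity are uniquely products of a point of the torus and
points of the root groups, in any given order.
-/

set_option autoImplicit false
universe u

open CategoryTheory CategoryTheory.Limits AlgebraicGeometry MonoidalCategory CartesianMonoidalCategory MonObj
open Groth.L14.RankOne TrivSqZeroExt

set_option backward.isDefEq.respectTransparency.types false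
set_option linter.style.haveILetI false

noncomputable section

namespace Groth.L14.Chart

theorem isPtDer_sum {R A K : Type u} [CommRing R] [CommRing A] [Algebra R A] [CommRing K] [Algebra R K]
    {χ : A →ₐ[R] K} {J : Type} [Fintype J] (c : J → K) {w : J → (A →ₗ[R] K)} (h : ∀ i, IsPtDer χ (w i)) :
    IsPtDer χ (∑ i, c i • w i) := fun a b => by
  simp only [LinearMap.coe_sum, Finset.sum_apply, LinearMap.smul_apply, smul_eq_mul, h _ a b]
  rw [Finset.mul_sum, Finset.mul_sum, ← Finset.sum_add_distrib]
  exact Finset.sum_congr rfl fun i _ => by ring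

variable {S : Scheme.{u}} {G : Over S}

section BaseChange

variable {R R' : Type u} [CommRing R] [CommRing R'] [Algebra R R'] (j : Spec (CommRingCat.of R) ⟶ S)
  (j' : Spec (CommRingCat.of R') ⟶ S) (hj : Spec.map (CommRingCat.ofHom (algebraMap R R')) ≫ j = j')

/-- The same object over `S`. -/
def spIso (C : Type u) [CommRing C] [Algebra R C] [Algebra R' C] [IsScalarTower R R' C] : Sp j C ≅ Sp j' C :=
  Over.isoMk (Iso.refl _) (by
    simp only [Over.mk_hom, Iso.refl_hom, Category.id_comp]
    rw [← hj, ← Spec.map_comp_assoc, ← CommRingCat.ofHom_comp, ← IsScalarTower.algebraMap_eq])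

theorem mor_spIso {C C' : Type u} [CommRing C] [Algebra R C] [Algebra R' C] [IsScalarTower R R' C] [CommRing C']
    [Algebra R C'] [Algebra R' C'] [IsScalarTower R R' C'] (h : C →ₐ[R'] C') :
    mor j' h ≫ (spIso j j' hj C).inv = (spIso j j' hj C').inv ≫ mor j (h.restrictScalars R) := by
  apply Over.OverMorphism.ext
  simp only [Over.comp_left, spIso]
  exact (Category.comp_id _).trans (Category.id_comp _).symm

theorem exists_baseChange [IsAffineHom G.hom] [Algebra R (Crd j' G)] [IsScalarTower R R' (Crd j' G)] :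
    ∃ φ : Crd j G →ₐ[R] Crd j' G, ∀ (C : Type u) [CommRing C] [Algebra R C] [Algebra R' C] [IsScalarTower R R' C]
      (p : Sp j C ⟶ G),
      ((ptEquiv.symm ((spIso j j' hj C).inv ≫ p) : Crd j' G →ₐ[R'] C).restrictScalars R).comp φ = ptEquiv.symm p := by
  refine ⟨ptEquiv.symm ((spIso j j' hj (Crd j' G)).hom ≫ univ j' G), fun C _ _ _ _ p => ?_⟩
  rw [← ptEquiv_symm_comp]
  congr 1
  have h := ptEquiv.apply_symm_apply ((spIso j j' hj C).inv ≫ p)
  rw [ptEquiv_apply] at h
  set ψ := ptEquiv.symm ((spIso j j' hj C).inv ≫ p) with hψ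
  have h2 : mor j (ψ.restrictScalars R) ≫ (spIso j j' hj (Crd j' G)).hom = (spIso j j' hj C).hom ≫ mor j' ψ := by
    rw [← Iso.eq_comp_inv, Category.assoc, mor_spIso, Iso.hom_inv_id_assoc]
  rw [reassoc_of% h2, h, Iso.hom_inv_id_assoc]

end BaseChange

variable [GrpObj G] {D : Red.SplitRed G} {R : Type u} [CommRing R] (j : Spec (CommRingCat.of R) ⟶ S)
  [IsAffineHom G.hom] [Smooth G.hom] [IsOpenImmersion j]

/-- Derivations at the identity with values in a field: at most as many independent ones as the dimension. -/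
theorem card_le_of_linearIndependent (D : Red.SplitRed G) {K : Type u} [Field K] [Algebra R K] {κ : Type} [Fintype κ]
    (f : κ → (Crd j G →ₗ[R] K)) (hf : ∀ i, IsPtDer (ptEquiv.symm (1 : Sp j K ⟶ G)) (f i))
    (hli : LinearIndependent K f) : Fintype.card κ ≤ Module.finrank ℤ D.M + Fintype.card D.idx := by
  classical
  let L := AlgebraicClosure K
  let q : Spec (CommRingCat.of L) ⟶ Spec (CommRingCat.of R) := Spec.map (CommRingCat.ofHom (algebraMap R L))
  let s : S := (q ≫ j) (IsLocalRing.closedPoint L)
  let dK : S.residueField s ⟶ CommRingCat.of L := Scheme.descResidueField (Scheme.stalkClosedPointTo (q ≫ j))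
  have hd : Spec.map dK ≫ S.fromSpecResidueField s = q ≫ j :=
    Scheme.descResidueField_stalkClosedPointTo_fromSpecResidueField L S (q ≫ j)
  letI : Algebra (S.residueField s) L := dK.hom.toAlgebra
  let K' := AlgebraicClosure (S.residueField s)
  let σ : K' →ₐ[S.residueField s] L := IsAlgClosed.lift
  letI : Algebra K' L := σ.toRingHom.toAlgebra
  let j' : Spec (CommRingCat.of K') ⟶ S := Red.geomPt s
  have hrange : Set.range j' ⊆ Set.range j := by
    rintro _ ⟨x, rfl⟩
    refine ⟨q (IsLocalRing.closedPoint L), ?_⟩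
    rw [show j' = _ from rfl, Scheme.Hom.comp_apply, Scheme.fromSpecResidueField_apply]
    exact (Scheme.Hom.comp_apply q j _).symm
  let lft : Spec (CommRingCat.of K') ⟶ Spec (CommRingCat.of R) := IsOpenImmersion.lift j j' hrange
  letI : Algebra R K' := (Spec.preimage lft).hom.toAlgebra
  have hj : Spec.map (CommRingCat.ofHom (algebraMap R K')) ≫ j = j' := by
    rw [show CommRingCat.ofHom (algebraMap R K') = Spec.preimage lft from rfl, Spec.map_preimage]
    exact IsOpenImmersion.lift_fac _ _ _
  have htower : algebraMap R L = (algebraMap K' L).comp (algebraMap R K') := by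
    have h1 : Spec.map (CommRingCat.ofHom ((algebraMap K' L).comp (algebraMap R K'))) ≫ j = q ≫ j := by
      rw [CommRingCat.ofHom_comp, Spec.map_comp, Category.assoc, hj, ← hd,
        show j' = Spec.map (CommRingCat.ofHom (algebraMap (S.residueField s) K')) ≫ S.fromSpecResidueField s from rfl,
        ← Category.assoc, ← Spec.map_comp]
      congr 2
      ext x
      exact σ.commutes x
    exact (CommRingCat.hom_ext_iff.1 (Spec.map_injective ((cancel_mono j).1 h1))).symm
  haveI : IsScalarTower R K' L := IsScalarTower.of_algebraMap_eq' htower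
  letI : Algebra R (Crd j' G) := ((algebraMap K' (Crd j' G)).comp (algebraMap R K')).toAlgebra
  haveI : IsScalarTower R K' (Crd j' G) := IsScalarTower.of_algebraMap_eq' rfl
  obtain ⟨φ, hφ⟩ := exists_baseChange (G := G) j j' hj
  obtain ⟨a, ha⟩ := exists_separating j' G (D.dim_fibre s) (ptEquiv.symm 1)
  let χ' : Crd j' G →ₐ[K'] L := (Algebra.ofId K' L).comp (ptEquiv.symm 1)
  have hχ' : χ' = ptEquiv.symm (1 : Sp j' L ⟶ G) := by
    show (Algebra.ofId K' L).comp (ptEquiv.symm 1) = _
    rw [← ptEquiv_symm_comp, MonObj.comp_one]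
  have hlift : ∀ i, ∃ h : Crd j' G →ₗ[K'] L, IsPtDer χ' h ∧ ∀ x, h (φ x) = algebraMap K L (f i x) := by
    intro i
    let g : Crd j G →ₗ[R] L := (IsScalarTower.toAlgHom R K L).toLinearMap.comp (f i)
    have hg : IsPtDer (ptEquiv.symm (1 : Sp j L ⟶ G)) g := fun x y => by
      have h1 : ptEquiv.symm (1 : Sp j L ⟶ G) = (IsScalarTower.toAlgHom R K L).comp (ptEquiv.symm 1) := by
        rw [← ptEquiv_symm_comp, MonObj.comp_one]
      simp only [g, LinearMap.comp_apply, hf i x y, h1, map_add, AlgHom.toLinearMap_apply, map_mul, AlgHom.comp_apply]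
    let p : Sp j (DualNumber L) ⟶ G := ptEquiv (omega _ g hg)
    let ω' : Crd j' G →ₐ[K'] DualNumber L := ptEquiv.symm ((spIso j j' hj (DualNumber L)).inv ≫ p)
    have hfst : (TrivSqZeroExt.fstHom K' L L).comp ω' = χ' := by
      have h1 : mor j ((TrivSqZeroExt.fstHom K' L L).restrictScalars R) ≫ p = 1 := by
        rw [show p = _ from rfl, ← ptEquiv_comp, show ((TrivSqZeroExt.fstHom K' L L).restrictScalars R).comp
          (omega _ g hg) = ptEquiv.symm 1 from AlgHom.ext fun x => fst_omega _ g hg x, Equiv.apply_symm_apply]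
      rw [show ω' = _ from rfl, ← ptEquiv_symm_comp, ← Category.assoc, mor_spIso, Category.assoc, h1,
        MonObj.comp_one, hχ']
    refine ⟨sndLM ω', isPtDer_sndLM _ _ fun x => DFunLike.congr_fun hfst x, fun x => ?_⟩
    have h2 := DFunLike.congr_fun (hφ _ p) x
    rw [show ptEquiv.symm p = omega _ g hg from Equiv.symm_apply_apply _ _] at h2
    exact (congrArg TrivSqZeroExt.snd h2).trans (snd_omega _ g hg x)
  choose h hh hhφ using hlift
  have hv : LinearIndependent L (fun i => fun l => h i (a l)) := by
    rw [Fintype.linearIndependent_iff]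
    intro c hc i₀
    let H : Crd j' G →ₗ[K'] L := ∑ i, c i • h i
    have hH : IsPtDer χ' H := isPtDer_sum c hh
    have hH0 : H = 0 := ha L H hH fun l => by
      simpa [H] using congrFun hc l
    have hz : ∀ x, ∑ i, c i * algebraMap K L (f i x) = 0 := fun x => by
      simpa [H, hhφ] using LinearMap.congr_fun hH0 (φ x)
    by_contra hne
    obtain ⟨π, hπ⟩ := Module.Projective.exists_dual_ne_zero K hne
    refine hπ ?_
    refine Fintype.linearIndependent_iff.1 hli (fun i => π (c i)) (LinearMap.ext fun x => ?_) i₀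
    have h3 := congrArg π (hz x)
    simp only [map_sum, map_zero, mul_comm (c _), ← Algebra.smul_def, map_smul, smul_eq_mul] at h3
    simpa [mul_comm] using h3
  simpa using hv.fintype_card_le_finrank

variable {v : D.idx → (Red.Ga S ⟶ G)}
  (hv : ∀ c, Red.IsRootHom D.i (D.split.hom.hom.hom ≫ Red.chi S (D.P.root c)) (v c))
  {l : List D.idx}

omit [Smooth G.hom] [IsOpenImmersion j] in
theorem originIn_comp_chartHom [∀ c, IsMonHom (v c)] (K : Type u) [CommRing K] [Algebra R K] :
    (originIn D R K).comp (chartHom j v l) = ptEquiv.symm (1 : Sp j K ⟶ G) := by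
  rw [comp_chartHom, originIn, map_evalCoord, chart_zero]

include hv in
theorem exists_tanDer_comp_eq (hl : l.Nodup) (hmem : ∀ c, c ∈ l) {K : Type u} [Field K] [Algebra R K]
    (w₀ : Crd j G →ₗ[R] K) (hw₀ : IsPtDer ((originIn D R K).comp (chartHom j v l)) w₀) :
    ∃ w : CoordRing D R →ₗ[R] K, IsPtDer (originIn D R K) w ∧ ∀ a, w (chartHom j v l a) = w₀ a := by
  classical
  haveI : ∀ c, IsMonHom (v c) := fun c => (hv c).1
  let b := Module.finBasis ℤ D.M
  let J := Fin (Module.finrank ℤ D.M) ⊕ D.idx
  let τ : J → (D.M →+ K) :=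
    Sum.elim (fun i => (Int.castAddHom K).comp (b.coord i).toAddMonoidHom) (fun _ => 0)
  let x : J → (D.idx → K) := Sum.elim (fun _ => 0) (fun c => Pi.single c 1)
  let F : J → (Crd j G →ₗ[R] K) := fun i => (tanDer (R := R) (τ i) (x i)).comp (chartHom j v l).toLinearMap
  have hPt : ∀ c : J → K, IsPtDer (originIn D R K) (∑ i, c i • tanDer (R := R) (τ i) (x i)) :=
    fun c => isPtDer_sum c fun i => isPtDer_tanDer _ _
  have hF : LinearIndependent K F := by
    rw [Fintype.linearIndependent_iff]
    intro c hc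
    obtain ⟨τ₀, x₀, h0⟩ := eq_tanDer (D := D) (hPt c)
    obtain ⟨rfl, rfl⟩ := eq_zero_of_comp_chartHom j hv hl hmem τ₀ x₀ fun a => by
      rw [← h0]
      simpa [F] using LinearMap.congr_fun hc a
    intro i
    rcases i with i | e
    · have h1 := LinearMap.congr_fun h0 ((univCoord D R).tor (Multiplicative.ofAdd (b i)))
      simpa [tanDer_tor, τ, J, Fintype.sum_sum_type, Finsupp.single_apply, eq_comm] using h1
    · have h1 := LinearMap.congr_fun h0 ((univCoord D R).co e)
      simpa [tanDer_co, x, J, Fintype.sum_sum_type, Pi.single_apply] using h1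
  have hspan : w₀ ∈ Submodule.span K (Set.range F) := by
    by_contra hn
    have hli : LinearIndependent K (fun o : Option J => o.elim w₀ F) := linearIndependent_option.2 ⟨hF, hn⟩
    have := card_le_of_linearIndependent j D _ (fun o => ?_) hli
    · simp [J] at this
    · rw [← originIn_comp_chartHom j (v := v) (l := l) K]
      cases o with
      | none => exact hw₀
      | some i =>
        exact fun p q => by
          simp only [Option.elim, F, LinearMap.comp_apply, AlgHom.toLinearMap_apply, map_mul, AlgHom.comp_apply]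
          exact isPtDer_tanDer (τ i) (x i) _ _
  obtain ⟨c, hc⟩ := (Submodule.mem_span_range_iff_exists_fun K).1 hspan
  exact ⟨_, hPt c, fun a => by simpa [F] using LinearMap.congr_fun hc a⟩

include hv in
/-- Points near to the identity have unique coordinates. -/
theorem existsUnique_coord (hl : l.Nodup) (hmem : ∀ c, c ∈ l) {C : Type u} [CommRing C] [Algebra R C] (I : Ideal C)
    (hI : IsNilpotent I) (g : Sp j C ⟶ G) (hg : mor j (Ideal.Quotient.mkₐ R I) ≫ g = 1) :
    ∃! d : Coord D C, d.map (Ideal.Quotient.mk I) = Coord.zero D (C ⧸ I) ∧ chart j v l d = g := by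
  haveI : ∀ c, IsMonHom (v c) := fun c => (hv c).1
  letI : Algebra (Crd j G) (CoordRing D R) := (chartHom j v l).toRingHom.toAlgebra
  haveI : IsScalarTower R (Crd j G) (CoordRing D R) :=
    IsScalarTower.of_algebraMap_eq fun r => ((chartHom j v l).commutes r).symm
  have hto : IsScalarTower.toAlgHom R (Crd j G) (CoordRing D R) = chartHom j v l := AlgHom.ext fun a => rfl
  have hres : ∀ m : Ideal R, resPt (originPt D R) m = originIn D R (R ⧸ m) := fun m => originIn_eq.symm
  obtain ⟨f, hf, hEt⟩ := exists_etale_of_section (A := Crd j G) (originPt D R)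
    (fun m _ w hw h0 => by
      letI := Ideal.Quotient.field m
      rw [hres] at hw
      obtain ⟨τ, x, rfl⟩ := eq_tanDer (D := D) hw
      obtain ⟨rfl, rfl⟩ := eq_zero_of_comp_chartHom j hv hl hmem τ x h0
      exact ptDer_ext (isPtDer_tanDer _ _) (fun a b => by simp) (fun k => by simp [tanDer_tor]) fun c => by
        simp [tanDer_co])
    (fun m _ w₀ hw₀ => by
      letI := Ideal.Quotient.field m
      rw [hres, hto] at hw₀
      rw [hres]
      exact exists_tanDer_comp_eq j hv hl hmem w₀ hw₀)
  have he : ∀ c : C, Ideal.Quotient.mk I c = Ideal.Quotient.mkₐ R I c := fun c => rfl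
  have hnear : ∀ χ : CoordRing D R →ₐ[R] C, (∀ b, χ b - algebraMap R C (originPt D R b) ∈ I) ↔
      ((univCoord D R).map χ.toRingHom).map (Ideal.Quotient.mk I) = Coord.zero D (C ⧸ I) := fun χ => by
    have h1 : ((univCoord D R).map χ.toRingHom).map (Ideal.Quotient.mk I) =
        (univCoord D R).map ((Ideal.Quotient.mkₐ R I).comp χ).toRingHom := rfl
    rw [h1, ← map_evalCoord (R := R) (Coord.zero D (C ⧸ I))]
    refine ⟨fun h => congrArg (fun f : CoordRing D R →ₐ[R] C ⧸ I => (univCoord D R).map f.toRingHom)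
      (AlgHom.ext fun b => ?_), fun h b => ?_⟩
    · rw [← originIn, originIn_eq]
      exact Ideal.Quotient.eq.2 (h b)
    · have h2 := DFunLike.congr_fun (coordHom_ext h) b
      rw [← originIn, originIn_eq] at h2
      exact Ideal.Quotient.eq.1 h2
  obtain ⟨χ, ⟨hχI, hχ⟩, huniq⟩ := existsUnique_lift (A := Crd j G) (originPt D R) hf I hI (ptEquiv.symm g) fun a => by
    refine Ideal.Quotient.eq.1 ?_
    show (Ideal.Quotient.mkₐ R I).comp (ptEquiv.symm g) a = ((Algebra.ofId R (C ⧸ I)).comp (originPt D R)).comp (chartHom j v l) a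
    rw [← ptEquiv_symm_comp, hg, ← originIn_eq, originIn_comp_chartHom]
  refine ⟨(univCoord D R).map χ.toRingHom, ⟨(hnear χ).1 hχI, ptEquiv.symm.injective ?_⟩, fun d hd => ?_⟩
  · rw [← comp_chartHom]
    exact AlgHom.ext hχ
  · have h := huniq (evalCoord d) ⟨(hnear _).2 (by rw [map_evalCoord]; exact hd.1), fun a => ?_⟩
    · rw [← h, map_evalCoord]
    · show ((evalCoord (R := R) d).comp (chartHom j v l)) a = _
      rw [comp_chartHom, map_evalCoord, hd.2]

end Groth.L14.Chart
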