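import Groth.Agent.L14.Chart.Expansion

/-!
Morphisms are determined by points with values in algebras over affine open subschemes of the base; commutators of
root points are products of root points with monomial coordinates.
-/

set_option autoImplicit false
universe u

open CategoryTheory CategoryTheory.Limits AlgebraicGeometry MonoidalCategory CartesianMonoidalCategory MonObj
open Groth.L14.RankOne Groth.L25

set_option backward.isDefEq.respectTransparency.types false
set_option linter.style.haveILetI false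

noncomputable section

namespace Groth.L14.Chart

variable {S : Scheme.{u}}

/-- Equality of morphisms is checked on points with values in algebras over affine open subschemes. -/
theorem hom_ext_open {X Y : Over S} {f g : X ⟶ Y}
    (h : ∀ (R : Type u) [CommRing R] (j : Spec (CommRingCat.of R) ⟶ S) [IsOpenImmersion j] (C : Type u) [CommRing C]
      [Algebra R C] (t : Sp j C ⟶ X), t ≫ f = t ≫ g) : f = g := by
  let 𝒰 := S.affineOpenCover
  let 𝒱 := 𝒰.openCover.pullback₁ X.hom
  refine Over.OverMorphism.ext (Scheme.Cover.hom_ext 𝒱 _ _ fun i => ?_)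
  refine Scheme.Cover.hom_ext ((pullback X.hom (𝒰.f i)).affineOpenCover.openCover) _ _ fun k => ?_
  let R := 𝒰.X i
  let C := (pullback X.hom (𝒰.f i)).affineOpenCover.X k
  let c : Spec (CommRingCat.of C) ⟶ pullback X.hom (𝒰.f i) := (pullback X.hom (𝒰.f i)).affineOpenCover.f k
  let j : Spec (CommRingCat.of R) ⟶ S := 𝒰.f i
  haveI : IsOpenImmersion j := 𝒰.map_prop i
  letI : Algebra R C := (Spec.preimage (c ≫ pullback.snd X.hom (𝒰.f i))).hom.toAlgebra
  have hc : Spec.map (CommRingCat.ofHom (algebraMap R C)) = c ≫ pullback.snd X.hom (𝒰.f i) :=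
    Spec.map_preimage _
  let t : Sp j C ⟶ X := Over.homMk (c ≫ pullback.fst X.hom (𝒰.f i)) (by
    simp only [Over.mk_hom, Category.assoc, pullback.condition, hc]; rfl)
  exact ((Category.assoc _ _ _).symm.trans (congrArg CommaMorphism.left (h R j C t))).trans (Category.assoc _ _ _)

variable {G : Over S} [GrpObj G] {D : Red.SplitRed G} {R : Type u} [CommRing R]
  (j : Spec (CommRingCat.of R) ⟶ S)

/-- The commutator of two root points. -/
def comm (p q : Red.Ga S ⟶ G) {C : Type u} [CommRing C] [Algebra R C] (x y : C) : Sp j C ⟶ G :=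
  (gp j y ≫ q) * (gp j x ≫ p) * (gp j y ≫ q)⁻¹ * (gp j x ≫ p)⁻¹

theorem mor_comm (p q : Red.Ga S ⟶ G) {C C' : Type u} [CommRing C] [Algebra R C] [CommRing C'] [Algebra R C']
    (h : C →ₐ[R] C') (x y : C) : mor j h ≫ comm j p q x y = comm j p q (h x) (h y) := by
  simp only [comm, MonObj.comp_mul, GrpObj.comp_inv, ← Category.assoc, mor_gp]

variable [IsOpenImmersion j] {v : D.idx → (Red.Ga S ⟶ G)}
  (hv : ∀ c, Red.IsRootHom D.i (D.split.hom.hom.hom ≫ Red.chi S (D.P.root c)) (v c)) {l : List D.idx}

include hv in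
/-- The commutator of two root subgroups is a product of root points with monomial coordinates. -/
theorem comm_expansion (hl : l.Nodup) (hmem : ∀ c, c ∈ l) (a b : D.idx)
    (hne : ∀ i k : ℕ, 1 ≤ i → 1 ≤ k → i • D.P.root a + k • D.P.root b ≠ 0)
    (e : D.idx → ℕ × ℕ)
    (he : ∀ c (i k : ℕ), 1 ≤ i → 1 ≤ k → D.P.root c = i • D.P.root a + k • D.P.root b → e c = (i, k)) :
    ∃ K : D.idx → R,
      (∀ c, K c ≠ 0 → 1 ≤ (e c).1 ∧ 1 ≤ (e c).2 ∧ D.P.root c = (e c).1 • D.P.root a + (e c).2 • D.P.root b) ∧
      ∀ (C : Type u) [CommRing C] [Algebra R C] (x y : C),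
        comm j (v a) (v b) x y = rootProd j v l (fun c => algebraMap R C (K c) * x ^ (e c).1 * y ^ (e c).2) := by
  haveI : ∀ c, IsMonHom (v c) := fun c => (hv c).1
  let g : Sp j (Poly R) ⟶ G := comm j (v a) (v b) (MvPolynomial.X 0) (MvPolynomial.X 1)
  have hg : ∀ (C : Type u) [CommRing C] [Algebra R C] (x y : C), evalF j g x y = comm j (v a) (v b) x y :=
    fun C _ _ x y => by simp [evalF, g, mor_comm]
  obtain ⟨K, hK, hexp⟩ := exists_expansion j hv hl hmem (D.P.root a) (D.P.root b) g
    (fun C _ _ χ x y => by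
      rw [hg, hg, comm, comm, ← conj_root j hv, ← conj_root j hv]
      group)
    (fun C _ _ x => by simp [hg, comm, gp_zero, MonObj.one_comp])
    (fun C _ _ y => by simp [hg, comm, gp_zero, MonObj.one_comp])
    hne e he
  exact ⟨K, hK, fun C _ _ x y => (hg C x y).symm.trans (hexp C x y)⟩

include hv in
/-- Root subgroups whose roots combine to no root commute. -/
theorem commute_of_no_combo (a b : D.idx)
    (hne : ∀ i k : ℕ, 1 ≤ i → 1 ≤ k → i • D.P.root a + k • D.P.root b ≠ 0 ∧
      i • D.P.root a + k • D.P.root b ∉ Set.range D.P.root)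
    {C : Type u} [CommRing C] [Algebra R C] (x y : C) :
    (gp j x ≫ v a) * (gp j y ≫ v b) = (gp j y ≫ v b) * (gp j x ≫ v a) := by
  classical
  haveI : ∀ c, IsMonHom (v c) := fun c => (hv c).1
  obtain ⟨K, hK, hexp⟩ := comm_expansion j hv (Finset.univ : Finset D.idx).nodup_toList
    (fun c => Finset.mem_toList.2 (Finset.mem_univ c)) a b (fun i k hi hk => (hne i k hi hk).1) (fun _ => (0, 0))
    (fun c i k hi hk h => absurd ⟨c, h⟩ (hne i k hi hk).2)
  have h1 : comm j (v a) (v b) x y = 1 := by
    rw [hexp C x y]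
    refine rootProd_eq_one j fun c _ => ?_
    by_cases h : K c = 0
    · simp [h]
    · exact absurd (hK c h).1 (by simp)
  rw [comm, mul_inv_eq_one, mul_inv_eq_iff_eq_mul] at h1
  exact h1.symm

end Groth.L14.Chart
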