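import Groth.Agent.L14.Chart.Formal

/-!
Uniqueness of coordinates of points near to the identity.
-/

set_option autoImplicit false
universe u

open CategoryTheory CategoryTheory.Limits AlgebraicGeometry MonoidalCategory CartesianMonoidalCategory MonObj
open Groth.L14.RankOne

set_option backward.isDefEq.respectTransparency.types false
set_option linter.style.haveILetI false

noncomputable section

namespace Groth.L14.Chart

variable {S : Scheme.{u}} {G : Over S} [GrpObj G] {D : Red.SplitRed G}

/-- Coordinates congruent to the origin. -/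
def Coord.IsNear {C : Type u} [CommRing C] (d : Coord D C) (I : Ideal C) : Prop :=
  (∀ m, d.tor m - 1 ∈ I) ∧ ∀ c, d.co c ∈ I

theorem Coord.isNear_iff {C : Type u} [CommRing C] (d : Coord D C) (I : Ideal C) :
    d.IsNear I ↔ d.map (Ideal.Quotient.mk I) = Coord.zero D (C ⧸ I) := by
  constructor
  · intro h
    refine Coord.ext (MonoidHom.ext fun m => ?_) (funext fun c => ?_)
    · exact (Ideal.Quotient.eq.2 (h.1 m)).trans (map_one _)
    · exact Ideal.Quotient.eq_zero_iff_mem.2 (h.2 c)
  · intro h
    refine ⟨fun m => Ideal.Quotient.eq.1 ?_, fun c => Ideal.Quotient.eq_zero_iff_mem.1 ?_⟩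
    · exact (DFunLike.congr_fun (congrArg Coord.tor h) m).trans (map_one _).symm
    · exact congrFun (congrArg Coord.co h) c

theorem Coord.IsNear.map {C C' : Type u} [CommRing C] [CommRing C'] {d : Coord D C} {I : Ideal C} (h : d.IsNear I)
    (f : C →+* C') {I' : Ideal C'} (hf : I.map f ≤ I') : (d.map f).IsNear I' := by
  refine ⟨fun m => hf ?_, fun c => hf (Ideal.mem_map_of_mem f (h.2 c))⟩
  have := Ideal.mem_map_of_mem f (h.1 m)
  rwa [map_sub, map_one] at this

theorem Coord.isNear_zero {C : Type u} [CommRing C] (I : Ideal C) : (Coord.zero D C).IsNear I :=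
  ⟨fun m => by simp [Coord.zero], fun c => I.zero_mem⟩

theorem Coord.IsNear.act {C : Type u} [CommRing C] {d : Coord D C} {I : Ideal C} (h : d.IsNear I)
    (χ : Multiplicative D.M →* C) : (d.act χ).IsNear I :=
  ⟨h.1, fun c => I.mul_mem_left _ (h.2 c)⟩

theorem reductive_affine : Red.SplitRed G → IsAffineHom G.hom := fun D => D.reductive.1

theorem reductive_smooth : Red.SplitRed G → Smooth G.hom := fun D => D.reductive.2.1

variable {R : Type u} [CommRing R] (j : Spec (CommRingCat.of R) ⟶ S) [IsOpenImmersion j]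
  {v : D.idx → (Red.Ga S ⟶ G)}
  (hv : ∀ c, Red.IsRootHom D.i (D.split.hom.hom.hom ≫ Red.chi S (D.P.root c)) (v c))
  {l : List D.idx}

include hv in
theorem exists_coord (hl : l.Nodup) (hmem : ∀ c, c ∈ l) {C : Type u} [CommRing C] [Algebra R C] (I : Ideal C)
    (hI : IsNilpotent I) (g : Sp j C ⟶ G) (hg : mor j (Ideal.Quotient.mkₐ R I) ≫ g = 1) :
    ∃ d : Coord D C, d.IsNear I ∧ chart j v l d = g := by
  haveI := reductive_affine D
  haveI := reductive_smooth D
  obtain ⟨d, hd, -⟩ := existsUnique_coord j hv hl hmem I hI g hg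
  exact ⟨d, (d.isNear_iff I).2 hd.1, hd.2⟩

include hv in
theorem exists_coord_of_surjective (hl : l.Nodup) (hmem : ∀ c, c ∈ l) {C C₀ : Type u} [CommRing C] [Algebra R C]
    [CommRing C₀] [Algebra R C₀] (q : C →ₐ[R] C₀) (hq : Function.Surjective q) (hI : IsNilpotent (RingHom.ker q))
    (g : Sp j C ⟶ G) (hg : mor j q ≫ g = 1) :
    ∃ d : Coord D C, d.IsNear (RingHom.ker q) ∧ chart j v l d = g := by
  refine exists_coord j hv hl hmem (RingHom.ker q) hI g ?_
  have h : Ideal.Quotient.mkₐ R (RingHom.ker q) =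
      ((Ideal.quotientKerAlgEquivOfSurjective hq).symm : C₀ →ₐ[R] C ⧸ RingHom.ker q).comp q := AlgHom.ext fun c =>
    ((Ideal.quotientKerAlgEquivOfSurjective hq).symm_apply_eq.2 rfl).symm
  rw [h, mor_comp, Category.assoc, hg, MonObj.comp_one]

include hv in
theorem coord_unique (hl : l.Nodup) (hmem : ∀ c, c ∈ l) {C : Type u} [CommRing C] [Algebra R C] {I : Ideal C}
    (hI : IsNilpotent I) {d d' : Coord D C} (h : d.IsNear I) (h' : d'.IsNear I)
    (he : chart j v l d = chart j v l d') : d = d' := by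
  haveI := reductive_affine D
  haveI := reductive_smooth D
  haveI : ∀ c, IsMonHom (v c) := fun c => (hv c).1
  have hg : mor j (Ideal.Quotient.mkₐ R I) ≫ chart j v l d = 1 := by
    rw [mor_chart]
    exact (congrArg (chart j v l) ((d.isNear_iff I).1 h)).trans (chart_zero j l)
  obtain ⟨e, -, hu⟩ := existsUnique_coord j hv hl hmem I hI _ hg
  exact (hu d ⟨(d.isNear_iff I).1 h, rfl⟩).trans (hu d' ⟨(d'.isNear_iff I).1 h', he.symm⟩).symm

omit [IsOpenImmersion j] in
theorem chart_one_tor [∀ c, IsMonHom (v c)] {C : Type u} [CommRing C] [Algebra R C] (x : D.idx → C) :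
    chart j v l (⟨1, x⟩ : Coord D C) = rootProd j v l x := by
  haveI := isMonHom_i (D := D)
  rw [chart, tpt_one, MonObj.one_comp, _root_.one_mul]

end Groth.L14.Chart
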