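import Groth.Agent.L14.RankOne.Pts
import Groth.Prelude.Def_RedSub
import Mathlib.AlgebraicGeometry.Morphisms.Smooth

/-!
The coordinate ring of an affine scheme over an affine base, and its points with values in algebras.
-/

set_option autoImplicit false
universe u

open CategoryTheory CategoryTheory.Limits AlgebraicGeometry
open Groth.L14.RankOne

set_option backward.isDefEq.respectTransparency.types false
set_option linter.style.haveILetI false

noncomputable section

namespace Groth.L14.Chart

variable {S : Scheme.{u}} {R : Type u} [CommRing R] (j : Spec (CommRingCat.of R) ⟶ S)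
  (G : Over S)

/-- The coordinate ring of the restriction of `G` to `Spec R`. -/
abbrev Crd : Type u := Γ(pullback G.hom j, ⊤)

instance instAlgebraCrd : Algebra R (Crd j G) :=
  ((Scheme.ΓSpecIso (CommRingCat.of R)).inv ≫ (pullback.snd G.hom j).appTop).hom.toAlgebra

variable {j G}
variable {C D : Type u} [CommRing C] [Algebra R C] [CommRing D] [Algebra R D]

theorem mor_id : mor j (AlgHom.id R C) = 𝟙 _ := by
  apply Over.OverMorphism.ext
  exact Spec.map_id (CommRingCat.of C)

theorem specMap_algebraMap_crd [IsAffine (pullback G.hom j)] :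
    (pullback G.hom j).isoSpec.hom ≫ Spec.map (CommRingCat.ofHom (algebraMap R (Crd j G))) =
      pullback.snd G.hom j := by
  have h : CommRingCat.ofHom (algebraMap R (Crd j G)) =
      (Scheme.ΓSpecIso (CommRingCat.of R)).inv ≫ (pullback.snd G.hom j).appTop := rfl
  rw [h, Spec.map_comp, Scheme.isoSpec_hom, ← Category.assoc, ← Scheme.toSpecΓ_naturality,
    Category.assoc, toSpecΓ_SpecMap_ΓSpecIso_inv, Category.comp_id]

variable [IsAffineHom G.hom]

instance : IsAffine (pullback G.hom j) := by
  haveI : IsAffineHom (pullback.snd G.hom j) := MorphismProperty.pullback_snd G.hom j ‹_›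
  exact isAffine_of_isAffineHom (pullback.snd G.hom j)

variable (j G) in
/-- The universal point. -/
def univ : Sp j (Crd j G) ⟶ G :=
  Over.homMk ((pullback G.hom j).isoSpec.inv ≫ pullback.fst G.hom j) (by
    simp only [Over.mk_hom, Category.assoc, pullback.condition]
    rw [Iso.inv_comp_eq, reassoc_of% specMap_algebraMap_crd (j := j) (G := G)])

theorem mor_univ_bijective :
    Function.Bijective (fun φ : Crd j G →ₐ[R] C => mor j φ ≫ univ j G) := by
  have key : ∀ φ : Crd j G →ₐ[R] C,
      (Spec.map (CommRingCat.ofHom φ.toRingHom) ≫ (pullback G.hom j).isoSpec.inv) ≫ pullback.snd G.hom j =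
        Spec.map (CommRingCat.ofHom (algebraMap R C)) := fun φ => by
    have h : (pullback G.hom j).isoSpec.inv ≫ pullback.snd G.hom j =
        Spec.map (CommRingCat.ofHom (algebraMap R (Crd j G))) := by
      rw [Iso.inv_comp_eq, specMap_algebraMap_crd]
    rw [Category.assoc, h, ← Spec.map_comp, ← CommRingCat.ofHom_comp]
    exact congrArg (fun f => Spec.map (CommRingCat.ofHom f)) φ.comp_algebraMap
  refine ⟨fun φ φ' h => ?_, fun p => ?_⟩
  · have h1 : (Spec.map (CommRingCat.ofHom φ.toRingHom) ≫ (pullback G.hom j).isoSpec.inv) =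
        (Spec.map (CommRingCat.ofHom φ'.toRingHom) ≫ (pullback G.hom j).isoSpec.inv) := by
      refine pullback.hom_ext ?_ ((key φ).trans (key φ').symm)
      rw [Category.assoc, Category.assoc]
      exact congrArg CommaMorphism.left h
    have h2 := Spec.map_injective ((cancel_mono _).1 h1)
    exact AlgHom.ext fun a => congrArg (fun f => f.hom a) h2
  · let l : Spec (CommRingCat.of C) ⟶ pullback G.hom j :=
      pullback.lift p.left (Spec.map (CommRingCat.ofHom (algebraMap R C))) (Over.w p)
    let f : CommRingCat.of (Crd j G) ⟶ CommRingCat.of C :=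
      Spec.preimage (l ≫ (pullback G.hom j).isoSpec.hom)
    have hf : CommRingCat.ofHom (algebraMap R (Crd j G)) ≫ f = CommRingCat.ofHom (algebraMap R C) := by
      apply Spec.map_injective
      rw [Spec.map_comp, Spec.map_preimage, Category.assoc, specMap_algebraMap_crd]
      exact pullback.lift_snd _ _ _
    refine ⟨{ f.hom with commutes' := fun r => congrArg (fun g => g.hom r) hf }, ?_⟩
    apply Over.OverMorphism.ext
    show Spec.map f ≫ (pullback G.hom j).isoSpec.inv ≫ pullback.fst G.hom j = p.left
    rw [Spec.map_preimage, Category.assoc, Iso.hom_inv_id_assoc]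
    exact pullback.lift_fst _ _ _

/-- Points with values in algebras are algebra maps on the coordinate ring. -/
def ptEquiv : (Crd j G →ₐ[R] C) ≃ (Sp j C ⟶ G) := Equiv.ofBijective _ mor_univ_bijective

theorem ptEquiv_apply (φ : Crd j G →ₐ[R] C) : ptEquiv φ = mor j φ ≫ univ j G := rfl

theorem ptEquiv_comp (h : C →ₐ[R] D) (φ : Crd j G →ₐ[R] C) :
    ptEquiv (h.comp φ) = mor j h ≫ ptEquiv φ := by
  rw [ptEquiv_apply, ptEquiv_apply, mor_comp, Category.assoc]

theorem ptEquiv_symm_comp (h : C →ₐ[R] D) (p : Sp j C ⟶ G) :
    ptEquiv.symm (mor j h ≫ p) = h.comp (ptEquiv.symm p) := by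
  rw [Equiv.symm_apply_eq, ptEquiv_comp, Equiv.apply_symm_apply]

instance [Smooth G.hom] : Algebra.Smooth R (Crd j G) := by
  haveI : Smooth (pullback.snd G.hom j) := MorphismProperty.pullback_snd G.hom j ‹_›
  have h := (HasRingHomProperty.iff_of_isAffine (P := @Smooth)).1 ‹Smooth (pullback.snd G.hom j)›
  have h' : RingHom.Smooth (algebraMap R (Crd j G)) :=
    RingHom.Smooth.respectsIso.2 (pullback.snd G.hom j).appTop.hom
      (Scheme.ΓSpecIso (CommRingCat.of R)).commRingCatIsoToRingEquiv.symm h
  exact RingHom.smooth_algebraMap.1 h'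

end Groth.L14.Chart
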