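import Mathlib.LinearAlgebra.RootSystem.Finite.Lemmas
import Mathlib.LinearAlgebra.RootSystem.Chain
import Mathlib.LinearAlgebra.RootSystem.Finite.Nondegenerate

/-!
Which positive combinations of two roots are roots.
-/

set_option autoImplicit false
set_option linter.style.haveILetI false
set_option linter.unusedSectionVars false

open Function Set

namespace Groth.L14.Chart.RootCombo

variable {κ M N : Type} [Finite κ] [AddCommGroup M] [AddCommGroup N] [Module.Free ℤ M] (P : RootPairing κ ℤ M N)

theorem isCrystallographic : P.IsCrystallographic := ⟨fun i j => ⟨P.pairing i j, rfl⟩⟩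

theorem pairingIn_eq (i j : κ) [P.IsCrystallographic] : P.pairingIn ℤ i j = P.pairing i j :=
  (P.algebraMap_pairingIn ℤ i j)

theorem not_indep_iff {i j : κ} :
    ¬ LinearIndependent ℤ ![P.root i, P.root j] ↔ P.pairing i j * P.pairing j i = 4 := by
  haveI : IsAddTorsionFree M := .of_isTorsionFree ℤ M
  rw [P.linearIndependent_iff_coxeterWeight_ne_four, not_not]
  rfl

theorem pairs (i j : κ) :
    (P.pairing i j, P.pairing j i) ∈
      ({(0, 0), (1, 1), (-1, -1), (1, 2), (2, 1), (-1, -2), (-2, -1), (1, 3), (3, 1), (-1, -3),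
        (-3, -1), (4, 1), (1, 4), (-4, -1), (-1, -4), (2, 2), (-2, -2)} : Set (ℤ × ℤ)) := by
  haveI := isCrystallographic P
  have := P.pairingIn_pairingIn_mem_set_of_isCrystallographic i j
  rwa [pairingIn_eq, pairingIn_eq] at this

theorem pairs_indep {i j : κ} (h : LinearIndependent ℤ ![P.root i, P.root j]) :
    (P.pairing i j, P.pairing j i) ∈
      ({(0, 0), (1, 1), (-1, -1), (1, 2), (2, 1), (-1, -2), (-2, -1), (1, 3), (3, 1), (-1, -3),
        (-3, -1)} : Set (ℤ × ℤ)) := by
  have h1 := pairs P i j
  have h2 : P.pairing i j * P.pairing j i ≠ 4 := fun h3 => (not_indep_iff P).2 h3 h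
  simp only [mem_insert_iff, mem_singleton_iff, Prod.mk.injEq] at h1 ⊢
  rcases h1 with h1 | h1 | h1 | h1 | h1 | h1 | h1 | h1 | h1 | h1 | h1 | h1 | h1 | h1 | h1 | h1 | h1 <;>
    first
      | omega
      | (exfalso; rw [h1.1, h1.2] at h2; norm_num at h2)

theorem indep_of {i j : κ} (h : ∀ r s : ℤ, r • P.root i + s • P.root j = 0 → r = 0 ∧ s = 0) :
    LinearIndependent ℤ ![P.root i, P.root j] :=
  LinearIndependent.pair_iff.2 h

theorem pairing_of_eq {i j k : κ} {r s : ℤ} (h : P.root k = r • P.root i + s • P.root j) (m : κ) :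
    P.pairing k m = r * P.pairing i m + s * P.pairing j m := by
  rw [← P.root_coroot'_eq_pairing, h, map_add, map_smul, map_smul, P.root_coroot'_eq_pairing,
    P.root_coroot'_eq_pairing]
  simp

/-- A root multiple of a root by a natural number is the root or its double. -/
theorem multiple_le_two {i k : κ} {n : ℕ} (h : P.root k = (n : ℤ) • P.root i) : n ≤ 2 := by
  have h1 : P.pairing k i = (n : ℤ) * 2 := by
    rw [pairing_of_eq P (k := k) (i := i) (j := i) (r := (n : ℤ)) (s := 0) (by rw [h, zero_smul, add_zero]) i, P.pairing_same]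
    simp
  have := pairs P k i
  simp only [mem_insert_iff, mem_singleton_iff, Prod.mk.injEq] at this
  omega

theorem two_zsmul_of_not_indep {i j : κ} (h : ¬ LinearIndependent ℤ ![P.root i, P.root j]) :
    (2 : ℤ) • P.root j = P.pairing j i • P.root i := by
  haveI : IsAddTorsionFree M := .of_isTorsionFree ℤ M
  obtain ⟨r, s, hrs, hne⟩ : ∃ r s : ℤ, r • P.root i + s • P.root j = 0 ∧ ¬ (r = 0 ∧ s = 0) := by
    rw [LinearIndependent.pair_iff] at h
    push Not at h
    obtain ⟨r, s, h1, h2⟩ := h
    exact ⟨r, s, h1, fun h3 => h2 h3.1 h3.2⟩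
  have hs : s ≠ 0 := fun hs => by
    subst hs
    rw [zero_smul, add_zero] at hrs
    have hr : r = 0 := (smul_eq_zero.1 hrs).resolve_right (P.ne_zero i)
    exact hne ⟨hr, rfl⟩
  have h1 : r * 2 + s * P.pairing j i = 0 := by
    have := congrArg (P.coroot' i) hrs
    rw [map_add, map_smul, map_smul, map_zero, P.root_coroot'_eq_pairing, P.root_coroot'_eq_pairing,
      P.pairing_same] at this
    simpa using this
  have h2 : s • ((2 : ℤ) • P.root j - P.pairing j i • P.root i) = 0 := by
    have h3 : (2 : ℤ) • (r • P.root i + s • P.root j) = 0 := by rw [hrs, smul_zero]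
    have h4 : s * P.pairing j i = -(r * 2) := by linarith
    rw [smul_sub, smul_smul, smul_smul, h4, ← h3]
    module
  exact sub_eq_zero.1 ((smul_eq_zero.1 h2).resolve_left hs)

/-- In a positive combination which is a root, some root summand has positive pairing. -/
theorem pairing_pos_or {i j k : κ} {r s : ℕ} (h : P.root k = (r : ℤ) • P.root i + (s : ℤ) • P.root j) :
    0 < P.pairing k i ∨ 0 < P.pairing k j := by
  classical
  haveI := isCrystallographic P
  letI := Fintype.ofFinite κ
  let B := P.RootForm
  have hpos : ∀ m, 0 < B (P.root m) (P.root m) := fun m => by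
    rw [P.rootForm_root_self]
    refine Finset.sum_pos' (fun l _ => mul_self_nonneg _) ⟨m, Finset.mem_univ m, ?_⟩
    rw [P.pairing_same]
    norm_num
  by_contra hc
  push Not at hc
  have h2 : ∀ m, 2 * B (P.root k) (P.root m) = P.pairing k m * B (P.root m) (P.root m) := fun m =>
    P.toInvariantForm.two_mul_apply_root_root k m
  have e : 2 * B (P.root k) (P.root k) =
      (r : ℤ) * (P.pairing k i * B (P.root i) (P.root i)) + (s : ℤ) * (P.pairing k j * B (P.root j) (P.root j)) := by
    rw [← h2, ← h2]
    conv_lhs => arg 2; arg 2; rw [h]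
    rw [map_add, map_smul, map_smul, smul_eq_mul, smul_eq_mul]
    ring
  have hi := mul_nonpos_of_nonpos_of_nonneg hc.1 (hpos i).le
  have hj := mul_nonpos_of_nonpos_of_nonneg hc.2 (hpos j).le
  have := hpos k
  nlinarith [Int.natCast_nonneg r, Int.natCast_nonneg s]

/-- If a combination with positive coefficients is a root then so is the sum. -/
theorem add_mem_of_combo {i j : κ} (hij : LinearIndependent ℤ ![P.root i, P.root j]) :
    ∀ (n : ℕ) (r s : ℕ), r + s ≤ n → 1 ≤ r → 1 ≤ s →
      (r : ℤ) • P.root i + (s : ℤ) • P.root j ∈ range P.root → P.root i + P.root j ∈ range P.root := by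
  haveI := isCrystallographic P
  have hind := LinearIndependent.pair_iff.1 hij
  intro n
  induction n with
  | zero => intro r s h hr; omega
  | succ n ih =>
    intro r s hn hr hs hmem
    obtain ⟨k, hk⟩ := hmem
    have hki : ∀ (q : ℤ), P.root k ≠ q • P.root i := fun q hq => by
      have := hind ((r : ℤ) - q) (s : ℤ) (by rw [sub_smul, ← hq, hk]; abel)
      omega
    have hkj : ∀ (q : ℤ), P.root k ≠ q • P.root j := fun q hq => by
      have := hind (r : ℤ) ((s : ℤ) - q) (by rw [sub_smul, ← hq, hk]; abel)
      omega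
    have sub_i : 0 < P.pairing k i → P.root k - P.root i ∈ range P.root := fun h =>
      P.root_sub_root_mem_of_pairingIn_pos (by rwa [pairingIn_eq]) fun e => hki 1 (by rw [e, one_smul])
    have sub_j : 0 < P.pairing k j → P.root k - P.root j ∈ range P.root := fun h =>
      P.root_sub_root_mem_of_pairingIn_pos (by rwa [pairingIn_eq]) fun e => hkj 1 (by rw [e, one_smul])
    have step_i : 2 ≤ r → P.root k - P.root i ∈ range P.root → P.root i + P.root j ∈ range P.root := fun h2 hm => by
      refine ih (r - 1) s (by omega) (by omega) hs ?_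
      convert hm using 1
      rw [hk, Nat.cast_sub hr, Nat.cast_one, sub_smul, one_smul]
      abel
    have step_j : 2 ≤ s → P.root k - P.root j ∈ range P.root → P.root i + P.root j ∈ range P.root := fun h2 hm => by
      refine ih r (s - 1) (by omega) hr (by omega) ?_
      convert hm using 1
      rw [hk, Nat.cast_sub hs, Nat.cast_one, sub_smul, one_smul]
      abel
    have hp := pairing_of_eq P hk
    have pij := pairs_indep P hij
    simp only [mem_insert_iff, mem_singleton_iff, Prod.mk.injEq] at pij
    rcases Nat.lt_or_ge r 2 with hr2 | hr2 <;> rcases Nat.lt_or_ge s 2 with hs2 | hs2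
    · obtain rfl : r = 1 := by omega
      obtain rfl : s = 1 := by omega
      exact ⟨k, by simpa using hk⟩
    · obtain rfl : r = 1 := by omega
      by_cases hj : 0 < P.pairing k j
      · exact step_j hs2 (sub_j hj)
      have hi : 0 < P.pairing k i := (pairing_pos_or P hk).resolve_right hj
      obtain ⟨m, hm⟩ := sub_i hi
      have hs' : s = 2 := by
        have := multiple_le_two P (n := s) (i := j) (k := m) (by rw [hm, hk]; simp)
        omega
      subst hs'
      have := hp j
      rw [P.pairing_same] at this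
      push_cast at this
      omega
    · obtain rfl : s = 1 := by omega
      by_cases hi : 0 < P.pairing k i
      · exact step_i hr2 (sub_i hi)
      have hj : 0 < P.pairing k j := (pairing_pos_or P hk).resolve_left hi
      obtain ⟨m, hm⟩ := sub_j hj
      have hr' : r = 2 := by
        have := multiple_le_two P (n := r) (i := i) (k := m) (by rw [hm, hk]; simp)
        omega
      subst hr'
      have := hp i
      rw [P.pairing_same] at this
      push_cast at this
      omega
    · rcases pairing_pos_or P hk with h | h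
      · exact step_i hr2 (sub_i h)
      · exact step_j hs2 (sub_j h)

/-- If the sum of two non-opposite roots is not a root, no positive combination of them is a root or zero. -/
theorem no_combo {i j : κ} (h0 : P.root i + P.root j ≠ 0) (hadd : P.root i + P.root j ∉ range P.root)
    {r s : ℕ} (hr : 1 ≤ r) (hs : 1 ≤ s) :
    r • P.root i + s • P.root j ≠ 0 ∧ r • P.root i + s • P.root j ∉ range P.root := by
  haveI : IsAddTorsionFree M := .of_isTorsionFree ℤ M
  rw [← natCast_zsmul, ← natCast_zsmul]
  by_cases hij : LinearIndependent ℤ ![P.root i, P.root j]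
  · refine ⟨fun h => ?_, fun h => hadd (add_mem_of_combo P hij _ r s le_rfl hr hs h)⟩
    have := LinearIndependent.pair_iff.1 hij _ _ h
    omega
  have h2 := two_zsmul_of_not_indep P hij
  have hinj : Injective fun x : M => (2 : ℤ) • x := smul_right_injective M (by norm_num)
  have key : ∀ (a b : κ), P.root b = P.root a ∨ P.root b = (2 : ℤ) • P.root a →
      P.root a + P.root b ≠ 0 → P.root a + P.root b ∉ range P.root → ∀ u w : ℕ, 1 ≤ u → 1 ≤ w →
      (u : ℤ) • P.root a + (w : ℤ) • P.root b ≠ 0 ∧ (u : ℤ) • P.root a + (w : ℤ) • P.root b ∉ range P.root := by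
    intro a b hb _ hab u w hu hw
    obtain ⟨n, hn, hn2⟩ : ∃ n : ℕ, 2 ≤ n ∧ ((u : ℤ) • P.root a + (w : ℤ) • P.root b = (n : ℤ) • P.root a ∧
        (n = 2 → P.root b = P.root a)) := by
      rcases hb with hb | hb
      · exact ⟨u + w, by omega, by rw [hb, Nat.cast_add, add_smul], fun _ => hb⟩
      · exact ⟨u + 2 * w, by omega, by rw [hb, Nat.cast_add, Nat.cast_mul, add_smul, mul_comm, mul_smul]; rfl,
          fun h => by omega⟩
    rw [hn2.1]
    refine ⟨fun h => ?_, fun ⟨m, hm⟩ => ?_⟩
    · rcases smul_eq_zero.1 h with h' | h'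
      · omega
      · exact P.ne_zero a h'
    · have := multiple_le_two P hm
      obtain rfl : n = 2 := by omega
      exact hab ⟨m, by rw [hm, hn2.2 rfl, Nat.cast_ofNat, two_smul]⟩
  have hp := pairs P j i
  have h4 : P.pairing i j * P.pairing j i = 4 := (not_indep_iff P).1 hij
  simp only [mem_insert_iff, mem_singleton_iff, Prod.mk.injEq] at hp
  rcases hp with hp | hp | hp | hp | hp | hp | hp | hp | hp | hp | hp | hp | hp | hp | hp | hp | hp <;>
    rw [hp.1, hp.2] at h4 <;> norm_num at h4
  · -- `j = 2 i`
    have hb : P.root j = (2 : ℤ) • P.root i := hinj (by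
      show (2 : ℤ) • P.root j = (2 : ℤ) • (2 : ℤ) • P.root i
      rw [h2, hp.1, smul_smul]; norm_num)
    exact key i j (Or.inr hb) h0 hadd r s hr hs
  · -- `i = 2 j`
    have hb : P.root i = (2 : ℤ) • P.root j := by
      rw [h2, hp.1, one_smul]
    obtain ⟨k1, k2⟩ := key j i (Or.inr hb) (by rwa [add_comm]) (by rwa [add_comm]) s r hs hr
    rw [add_comm]
    exact ⟨k1, k2⟩
  · exact absurd ⟨P.reflectionPerm i i, by
      rw [P.root_reflectionPerm, P.reflection_apply_self]
      have hb : P.root j = (-2 : ℤ) • P.root i := hinj (by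
        show (2 : ℤ) • P.root j = (2 : ℤ) • (-2 : ℤ) • P.root i
        rw [h2, hp.1, smul_smul]; norm_num)
      rw [hb]; module⟩ hadd
  · exact absurd ⟨P.reflectionPerm j j, by
      rw [P.root_reflectionPerm, P.reflection_apply_self]
      have hb : P.root i = (-2 : ℤ) • P.root j := by
        rw [neg_smul, h2, hp.1, neg_one_smul, neg_neg]
      rw [hb]; module⟩ hadd
  · have hb : P.root j = P.root i := hinj (by
      show (2 : ℤ) • P.root j = (2 : ℤ) • P.root i
      rw [h2, hp.1])
    exact key i j (Or.inl hb) h0 hadd r s hr hs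
  · refine absurd (hinj ?_) h0
    show (2 : ℤ) • (P.root i + P.root j) = (2 : ℤ) • (0 : M)
    rw [smul_add, h2, hp.1, smul_zero]
    module

end Groth.L14.Chart.RootCombo
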