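import Groth.Agent.L14.Chart.PtsRep
import Groth.Agent.L14.Chart.EtaleSection
import Groth.Agent.L08.GrpDim
import Groth.Agent.L21.Smooth.Scheme
import Mathlib.Algebra.Module.SpanRank

/-!
Derivations at a rational point of a smooth group over a field are separated by as many functions as the dimension.
-/

set_option autoImplicit false
universe u

open CategoryTheory CategoryTheory.Limits AlgebraicGeometry
open Groth.L14.RankOne

set_option backward.isDefEq.respectTransparency.types false
set_option linter.style.haveILetI false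

noncomputable section

namespace Groth.L14.Chart

variable {S : Scheme.{u}} {k : Type u} [Field k] (j : Spec (CommRingCat.of k) ⟶ S)
  (G : Over S) [GrpObj G] [IsAffineHom G.hom] [Smooth G.hom]

theorem spanFinrank_maximal {n : ℕ} (hn : topologicalKrullDim (Red.bc j G).left = (n : WithBot ℕ∞))
    (P : Ideal (Crd j G)) [hP : P.IsMaximal] :
    IsRegularLocalRing (Localization.AtPrime P) ∧
      (IsLocalRing.maximalIdeal (Localization.AtPrime P)).spanFinrank = n := by
  let X := (Red.bc j G).left
  haveI : IsAffine X := inferInstanceAs (IsAffine (pullback G.hom j))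
  haveI : Smooth (Red.bc j G).hom := MorphismProperty.pullback_snd G.hom j ‹_›
  let p : Spec Γ(X, ⊤) := ⟨P, hP.isPrime⟩
  let g : X := X.isoSpec.inv p
  have hp : IsClosed ({p} : Set (Spec Γ(X, ⊤))) :=
    (PrimeSpectrum.isClosed_singleton_iff_isMaximal (R := Crd j G) _).mpr hP
  have hg : IsClosed ({g} : Set X) := by
    have := X.isoSpec.inv.isClosedEmbedding.isClosedMap _ hp
    rwa [Set.image_singleton] at this
  have hreg := Groth.L21.Smooth.regular_stalk (Red.bc j G).hom g
  obtain ⟨e⟩ := Groth.L25.SmoothUnit.stalkRingEquiv (Crd j G) p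
  let e' : X.presheaf.stalk g ≃+* Localization.AtPrime P :=
    (asIso (X.isoSpec.inv.stalkMap p)).commRingCatIsoToRingEquiv.trans e.symm
  haveI : IsRegularLocalRing (Localization.AtPrime P) := IsRegularLocalRing.of_ringEquiv e'
  refine ⟨inferInstance, ?_⟩
  have h1 := IsRegularLocalRing.spanFinrank_maximalIdeal (R := Localization.AtPrime P)
  rw [← ringKrullDim_eq_of_ringEquiv e', Groth.L08.GrpDim.ringKrullDim_stalk (Red.bc j G) g hg, hn] at h1
  exact_mod_cast h1

/-- Functions separating the derivations at a point with values in extension fields. -/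
theorem exists_separating {n : ℕ} (hn : topologicalKrullDim (Red.bc j G).left = (n : WithBot ℕ∞))
    (χ : Crd j G →ₐ[k] k) :
    ∃ a : Fin n → Crd j G, ∀ (L : Type u) [Field L] [Algebra k L] (w : Crd j G →ₗ[k] L),
      IsPtDer ((Algebra.ofId k L).comp χ) w → (∀ i, w (a i) = 0) → w = 0 := by
  classical
  let P : Ideal (Crd j G) := RingHom.ker χ
  have hsurj : Function.Surjective χ := fun c => ⟨algebraMap k _ c, χ.commutes c⟩
  haveI : P.IsMaximal := RingHom.ker_isMaximal_of_surjective χ hsurj
  obtain ⟨hreg, hsp⟩ := spanFinrank_maximal j G hn P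
  let Aₚ := Localization.AtPrime P
  let m := IsLocalRing.maximalIdeal Aₚ
  have hfg : Submodule.FG (m : Submodule Aₚ Aₚ) := IsNoetherian.noetherian m
  have hfin := Submodule.FG.finite_generators hfg
  letI : Fintype m.generators := hfin.fintype
  let e : m.generators ≃ Fin n := Fintype.equivFinOfCardEq (by
    rw [← Nat.card_eq_fintype_card, Nat.card_coe_set_eq, Submodule.FG.generators_ncard hfg, hsp])
  have hgen : ∀ i : Fin n, ∃ a : Crd j G, ∃ s : P.primeCompl, IsLocalization.mk' Aₚ a s = (e.symm i : Aₚ) :=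
    fun i => ⟨_, _, IsLocalization.mk'_sec _ _⟩
  choose a s has using hgen
  have haP : ∀ i, a i ∈ P := fun i => by
    have : (e.symm i : Aₚ) ∈ m := Submodule.FG.generators_mem m (e.symm i).2
    rw [← has i] at this
    exact (IsLocalization.AtPrime.mk'_mem_maximal_iff Aₚ P (a i) (s i)).1 this
  refine ⟨a, fun L _ _ w hw h0 => ?_⟩
  have hspan : m = (Ideal.span (Set.range a)).map (algebraMap (Crd j G) Aₚ) := by
    refine le_antisymm ?_ ?_
    · conv_lhs => rw [← Submodule.span_generators m]
      refine Submodule.span_le.2 fun x hx => ?_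
      obtain ⟨i, rfl⟩ : ∃ i, (e.symm i : Aₚ) = x := ⟨e ⟨x, hx⟩, by simp⟩
      rw [← has i, IsLocalization.mk'_eq_mul_mk'_one (M := P.primeCompl) (S := Aₚ) (a i) (s i)]
      exact Ideal.mul_mem_right _ _ (Ideal.mem_map_of_mem _ (Ideal.subset_span ⟨i, rfl⟩))
    · rw [Ideal.map_span, Ideal.span_le]
      rintro _ ⟨_, ⟨i, rfl⟩, rfl⟩
      exact (IsLocalization.AtPrime.to_map_mem_maximal_iff Aₚ P (a i)).2 (haP i)
  have hwspan : ∀ x ∈ Ideal.span (Set.range a), w x = 0 := fun x hx => by
    induction hx using Submodule.span_induction with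
    | mem x hx => obtain ⟨i, rfl⟩ := hx; exact h0 i
    | zero => exact map_zero w
    | add x y _ _ hx hy => rw [map_add, hx, hy, add_zero]
    | smul c x hxs hx =>
      have hxP : x ∈ P := Ideal.span_le.2 (by rintro _ ⟨i, rfl⟩; exact haP i) hxs
      rw [smul_eq_mul, hw, hx, AlgHom.comp_apply ((Algebra.ofId k L)) χ x, (RingHom.mem_ker).1 hxP, map_zero]
      simp
  have hwP : ∀ p ∈ P, w p = 0 := fun p hp => by
    have h1 : algebraMap (Crd j G) Aₚ p ∈ (Ideal.span (Set.range a)).map (algebraMap (Crd j G) Aₚ) :=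
      hspan ▸ (IsLocalization.AtPrime.to_map_mem_maximal_iff Aₚ P p).2 hp
    obtain ⟨t, ht, hmem⟩ := (IsLocalization.algebraMap_mem_map_algebraMap_iff P.primeCompl Aₚ _ p).1 h1
    have h2 := hwspan _ hmem
    rw [hw, AlgHom.comp_apply _ χ p, (RingHom.mem_ker).1 hp, map_zero, zero_mul, add_zero] at h2
    refine (mul_eq_zero.1 h2).resolve_left fun h3 => ht ?_
    exact (RingHom.mem_ker).2 ((algebraMap k L).injective (h3.trans (map_zero _).symm))
  refine LinearMap.ext fun x => ?_
  have h1 := hwP (x - algebraMap k _ (χ x)) ((RingHom.mem_ker).2 (by simp))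
  rw [map_sub, sub_eq_zero] at h1
  rw [h1, Algebra.algebraMap_eq_smul_one, map_smul, hw.map_one, smul_zero]
  rfl

end Groth.L14.Chart
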