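import Groth.Agent.L14.Chart.Coord
import Groth.Agent.L14.Chart.TangentDim
import Groth.Agent.L25.GrpDeriv
import Mathlib.Algebra.MonoidAlgebra.Basic

/-!
The chart of a split group is bijective on derivations at the origin.
-/

set_option autoImplicit false
universe u

open CategoryTheory CategoryTheory.Limits AlgebraicGeometry MonoidalCategory CartesianMonoidalCategory MonObj
open Groth.L14.RankOne Groth.L25 TrivSqZeroExt

set_option backward.isDefEq.respectTransparency.types false
set_option linter.style.haveILetI false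

noncomputable section

namespace Groth.L14.Chart

section Omega

variable {R : Type u} [CommRing R] {A : Type u} [CommRing A] [Algebra R A] {K : Type u} [CommRing K] [Algebra R K]

/-- The dual-number point of a derivation at a point. -/
def omega (χ : A →ₐ[R] K) (w : A →ₗ[R] K) (hw : IsPtDer χ w) : A →ₐ[R] DualNumber K where
  toFun a := inl (χ a) + inr (w a)
  map_one' := by ext <;> simp [hw.map_one]
  map_mul' a b := by
    ext
    · simp
    · simp [hw a b]; ring
  map_zero' := by ext <;> simp
  map_add' a b := by ext <;> simp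
  commutes' r := by
    ext
    · simp [TrivSqZeroExt.algebraMap_eq_inl']
    · have : w (algebraMap R A r) = 0 := by
        rw [Algebra.algebraMap_eq_smul_one, map_smul, hw.map_one, smul_zero]
      simp [TrivSqZeroExt.algebraMap_eq_inl', this]

theorem fst_omega (χ : A →ₐ[R] K) (w : A →ₗ[R] K) (hw : IsPtDer χ w) (a : A) : (omega χ w hw a).fst = χ a := by
  simp [omega]

theorem snd_omega (χ : A →ₐ[R] K) (w : A →ₗ[R] K) (hw : IsPtDer χ w) (a : A) : (omega χ w hw a).snd = w a := by
  simp [omega]

/-- The linear part of a dual-number point. -/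
def sndLM (ω : A →ₐ[R] DualNumber K) : A →ₗ[R] K where
  toFun a := (ω a).snd
  map_add' a b := by simp
  map_smul' r a := by simp

theorem isPtDer_sndLM (ω : A →ₐ[R] DualNumber K) (χ : A →ₐ[R] K) (h : ∀ a, (ω a).fst = χ a) :
    IsPtDer χ (sndLM ω) := fun a b => by
  show (ω (a * b)).snd = χ a * (ω b).snd + χ b * (ω a).snd
  rw [map_mul, TrivSqZeroExt.snd_mul, h, h]
  simp
  ring

end Omega

variable {S : Scheme.{u}} {G : Over S} [GrpObj G] {D : Red.SplitRed G}
  {R : Type u} [CommRing R] (j : Spec (CommRingCat.of R) ⟶ S)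
  {v : D.idx → (Red.Ga S ⟶ G)}
  (hv : ∀ c, Red.IsRootHom D.i (D.split.hom.hom.hom ≫ Red.chi S (D.P.root c)) (v c))
  {l : List D.idx}

/-- A character acting on coordinates. -/
def Coord.act {C : Type u} [CommRing C] (χ : Multiplicative D.M →* C) (d : Coord D C) : Coord D C :=
  ⟨d.tor, fun c => χ (Multiplicative.ofAdd (D.P.root c)) * d.co c⟩

include hv in
theorem conj_root {C : Type u} [CommRing C] [Algebra R C] (χ : Multiplicative D.M →* C) (c : D.idx) (x : C) :
    (tpt D j χ ≫ D.i) * (gp j x ≫ v c) * (tpt D j χ ≫ D.i)⁻¹ =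
      gp j (χ (Multiplicative.ofAdd (D.P.root c)) * x) ≫ v c := by
  obtain ⟨y, hy, hy'⟩ := (hv c).2.2 _ (tpt D j χ) (gp j x)
  rw [← hy]
  refine congrArg (· ≫ v c) (GaPts.gaFn_injective ?_)
  change Red.gaFn y = Red.gaFn (gp j _)
  rw [hy', gmFn_tpt_chi, gaFn_gp, gaFn_gp, map_mul]

include hv in
theorem conj_rootProd {C : Type u} [CommRing C] [Algebra R C] (χ : Multiplicative D.M →* C) (m : List D.idx)
    (x : D.idx → C) :
    (tpt D j χ ≫ D.i) * rootProd j v m x * (tpt D j χ ≫ D.i)⁻¹ =
      rootProd j v m (fun c => χ (Multiplicative.ofAdd (D.P.root c)) * x c) := by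
  induction m with
  | nil => simp [rootProd]
  | cons c m ih =>
    simp only [rootProd, List.map_cons, List.prod_cons] at ih ⊢
    rw [← ih, ← conj_root j hv]
    group

include hv in
theorem conj_chart {C : Type u} [CommRing C] [Algebra R C] (χ : Multiplicative D.M →* C) (d : Coord D C) :
    (tpt D j χ ≫ D.i) * chart j v l d * (tpt D j χ ≫ D.i)⁻¹ = chart j v l (d.act χ) := by
  haveI := isMonHom_i (D := D)
  rw [chart, chart, show (d.act χ).tor = d.tor from rfl,
    show (d.act χ).co = fun c => χ (Multiplicative.ofAdd (D.P.root c)) * d.co c from rfl, ← conj_rootProd j hv]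
  have h : (tpt D j χ ≫ D.i) * (tpt D j d.tor ≫ D.i) = (tpt D j d.tor ≫ D.i) * (tpt D j χ ≫ D.i) := by
    rw [← MonObj.mul_comp, ← MonObj.mul_comp, ← tpt_mul, ← tpt_mul, mul_comm χ]
  rw [← _root_.mul_assoc (tpt D j χ ≫ D.i), h]
  group

theorem rootProd_single [∀ c, IsMonHom (v c)] {C : Type u} [CommRing C] [Algebra R C] {m : List D.idx}
    (hm : m.Nodup) {c : D.idx} (hc : c ∈ m) {x : D.idx → C} (hx : ∀ c', c' ≠ c → x c' = 0) :
    rootProd j v m x = gp j (x c) ≫ v c := by
  induction m with
  | nil => simp at hc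
  | cons c' m ih =>
    obtain ⟨hnot, hm'⟩ := List.nodup_cons.1 hm
    have hr : rootProd j v (c' :: m) x = (gp j (x c') ≫ v c') * rootProd j v m x := by
      simp [rootProd]
    by_cases h : c' = c
    · subst h
      rw [hr, rootProd_eq_one j fun e he => hx e fun heq => hnot (by rw [← heq]; exact he), _root_.mul_one]
    · rw [hr, hx c' h, gp_zero, MonObj.one_comp, _root_.one_mul]
      exact ih hm' ((List.mem_cons.1 hc).resolve_left (Ne.symm h))

variable [IsAffineHom G.hom]

variable (v l) in
/-- The map of coordinate rings of the chart. -/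
def chartHom : Crd j G →ₐ[R] CoordRing D R := ptEquiv.symm (chart j v l (univCoord D R))

theorem comp_chartHom {C : Type u} [CommRing C] [Algebra R C] (f : CoordRing D R →ₐ[R] C) :
    f.comp (chartHom j v l) = ptEquiv.symm (chart j v l ((univCoord D R).map f.toRingHom)) := by
  rw [chartHom, ← ptEquiv_symm_comp, mor_chart]

variable (D R) in
/-- The origin with values in an algebra. -/
def originIn (C : Type u) [CommRing C] [Algebra R C] : CoordRing D R →ₐ[R] C := evalCoord (Coord.zero D C)

omit [IsAffineHom G.hom] in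
theorem originIn_eq {C : Type u} [CommRing C] [Algebra R C] :
    originIn D R C = (Algebra.ofId R C).comp (originPt D R) := by
  rw [originPt, ← evalCoord_map, Coord.map_zero]
  rfl

section Ring

variable {K : Type u} [CommRing K] [Algebra R K]

omit [IsAffineHom G.hom] in
theorem ptDer_ext {w w' : CoordRing D R →ₗ[R] K} (hw : IsPtDer (originIn D R K) w)
    (hw' : IsPtDer (originIn D R K) w')
    (htor : ∀ m, w ((univCoord D R).tor m) = w' ((univCoord D R).tor m))
    (hco : ∀ c, w ((univCoord D R).co c) = w' ((univCoord D R).co c)) : w = w' := by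
  have : omega _ w hw = omega _ w' hw' := coordHom_ext <| Coord.ext
    (MonoidHom.ext fun m => TrivSqZeroExt.ext ((fst_omega _ w hw _).trans (fst_omega _ w' hw' _).symm)
      ((snd_omega _ w hw _).trans ((htor m).trans (snd_omega _ w' hw' _).symm)))
    (funext fun c => TrivSqZeroExt.ext ((fst_omega _ w hw _).trans (fst_omega _ w' hw' _).symm)
      ((snd_omega _ w hw _).trans ((hco c).trans (snd_omega _ w' hw' _).symm)))
  exact LinearMap.ext fun b => by rw [← snd_omega _ w hw b, this, snd_omega]

/-- The character of a tangent vector of the torus. -/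
def torTan {P : Type u} [CommRing P] (τ : D.M →+ P) : Multiplicative D.M →* DualNumber P where
  toFun m := inl 1 + inr (τ m.toAdd)
  map_one' := by ext <;> simp
  map_mul' m m' := by
    ext
    · simp
    · simp [add_comm]

/-- Coordinates of a tangent vector at the origin. -/
def tanCoord {P : Type u} [CommRing P] (τ : D.M →+ P) (x : D.idx → P) : Coord D (DualNumber P) :=
  ⟨torTan τ, fun c => inr (x c)⟩

omit [IsAffineHom G.hom] in
theorem fst_evalCoord_tanCoord {P : Type u} [CommRing P] [Algebra R P] (τ : D.M →+ P) (x : D.idx → P) (b : CoordRing D R) :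
    (evalCoord (R := R) (tanCoord τ x) b).fst = originIn D R P b := by
  refine DFunLike.congr_fun (?_ : ((TrivSqZeroExt.fstHom R P P).comp (evalCoord (R := R) (tanCoord τ x))) = _) b
  rw [← evalCoord_map, originIn]
  congr 1
  refine Coord.ext (MonoidHom.ext fun m => ?_) (funext fun c => ?_)
  · show (inl 1 + inr (τ m.toAdd) : DualNumber P).fst = 1
    simp
  · show (inr (x c) : DualNumber P).fst = 0
    simp

/-- The tangent vector of coordinates. -/
def tanDer (τ : D.M →+ K) (x : D.idx → K) : CoordRing D R →ₗ[R] K := sndLM (evalCoord (tanCoord τ x))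

omit [IsAffineHom G.hom] in
theorem isPtDer_tanDer (τ : D.M →+ K) (x : D.idx → K) : IsPtDer (originIn D R K) (tanDer τ x) :=
  isPtDer_sndLM _ _ (fst_evalCoord_tanCoord τ x)

omit [IsAffineHom G.hom] in
theorem tanDer_tor (τ : D.M →+ K) (x : D.idx → K) (m : Multiplicative D.M) :
    tanDer (R := R) τ x ((univCoord D R).tor m) = τ m.toAdd := by
  have := DFunLike.congr_fun (congrArg Coord.tor (map_evalCoord (R := R) (tanCoord τ x))) m
  show (evalCoord (R := R) (tanCoord τ x) ((univCoord D R).tor m)).snd = _
  exact (congrArg TrivSqZeroExt.snd this).trans (by simp [tanCoord, torTan])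

omit [IsAffineHom G.hom] in
theorem tanDer_co (τ : D.M →+ K) (x : D.idx → K) (c : D.idx) :
    tanDer (R := R) τ x ((univCoord D R).co c) = x c := by
  have := congrFun (congrArg Coord.co (map_evalCoord (R := R) (tanCoord τ x))) c
  show (evalCoord (R := R) (tanCoord τ x) ((univCoord D R).co c)).snd = _
  exact (congrArg TrivSqZeroExt.snd this).trans (by simp [tanCoord])

omit [IsAffineHom G.hom] in
theorem eq_tanDer {w : CoordRing D R →ₗ[R] K} (hw : IsPtDer (originIn D R K) w) :
    ∃ (τ : D.M →+ K) (x : D.idx → K), w = tanDer τ x := by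
  have hχ : ∀ m : Multiplicative D.M, originIn D R K ((univCoord D R).tor m) = 1 := fun m =>
    DFunLike.congr_fun (congrArg Coord.tor (map_evalCoord (R := R) (Coord.zero D K))) m
  let τ : D.M →+ K := AddMonoidHom.mk' (fun m => w ((univCoord D R).tor (Multiplicative.ofAdd m))) fun a b => by
    rw [ofAdd_add, map_mul, hw, hχ, hχ, _root_.one_mul, _root_.one_mul, add_comm]
  refine ⟨τ, fun c => w ((univCoord D R).co c), ptDer_ext hw (isPtDer_tanDer _ _) (fun m => ?_) fun c => ?_⟩
  · rw [tanDer_tor]; rfl
  · rw [tanDer_co]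

theorem chart_tanCoord_eq_one_iff [∀ c, IsMonHom (v c)] (τ : D.M →+ K) (x : D.idx → K) :
    chart j v l (tanCoord (D := D) τ x) = (1 : Sp j (DualNumber K) ⟶ G) ↔
      ∀ a, tanDer (R := R) τ x (chartHom j v l a) = 0 := by
  have hz : evalCoord (R := R) (Coord.zero D (DualNumber K)) =
      (Algebra.ofId R (DualNumber K)).comp (originPt D R) := by
    rw [originPt, ← evalCoord_map, Coord.map_zero]
  have key : chart j v l (tanCoord (D := D) τ x) = (1 : Sp j (DualNumber K) ⟶ G) ↔
      (evalCoord (R := R) (tanCoord τ x)).comp (chartHom j v l) =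
        (evalCoord (R := R) (Coord.zero D (DualNumber K))).comp (chartHom j v l) := by
    rw [← chart_zero j (v := v) l, comp_chartHom, comp_chartHom, map_evalCoord, map_evalCoord,
      (ptEquiv.symm).injective.eq_iff]
  rw [key, hz]
  refine ⟨fun h a => ?_, fun h => AlgHom.ext fun a => TrivSqZeroExt.ext ?_ (?_ : tanDer (R := R) τ x _ = _)⟩
  · show (evalCoord (R := R) (tanCoord τ x) (chartHom j v l a)).snd = 0
    rw [← AlgHom.comp_apply _ (chartHom j v l) a, h]
    simp [TrivSqZeroExt.algebraMap_eq_inl']
  · rw [AlgHom.comp_apply, fst_evalCoord_tanCoord, originIn_eq]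
    simp [TrivSqZeroExt.algebraMap_eq_inl']
  · refine (h a).trans ?_
    simp [TrivSqZeroExt.algebraMap_eq_inl']

/-- Functoriality of dual numbers. -/
def dualMap {P : Type u} [CommRing P] [Algebra R P] (f : K →ₐ[R] P) : DualNumber K →ₐ[R] DualNumber P :=
  omega (f.comp (TrivSqZeroExt.fstHom R K K)) (f.toLinearMap.comp ((TrivSqZeroExt.sndHom K K).restrictScalars R))
    fun a b => by simp [map_add, map_mul]; ring

omit [IsAffineHom G.hom] in
theorem tanCoord_map_dualMap {P : Type u} [CommRing P] [Algebra R P] (f : K →ₐ[R] P) (τ : D.M →+ K)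
    (x : D.idx → K) :
    (tanCoord τ x).map (dualMap f).toRingHom = tanCoord ((f : K →+ P).comp τ) (fun c => f (x c)) := by
  refine Coord.ext (MonoidHom.ext fun m => TrivSqZeroExt.ext ?_ ?_) (funext fun c => TrivSqZeroExt.ext ?_ ?_)
  · show (dualMap f ((torTan τ) m)).fst = (torTan ((f : K →+ P).comp τ) m).fst
    simp [dualMap, fst_omega, torTan]
  · show (dualMap f ((torTan τ) m)).snd = (torTan ((f : K →+ P).comp τ) m).snd
    simp [dualMap, snd_omega, torTan]
  · show (dualMap f (inr (x c))).fst = (inr (f (x c)) : DualNumber P).fst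
    simp [dualMap, fst_omega]
  · show (dualMap f (inr (x c))).snd = (inr (f (x c)) : DualNumber P).snd
    simp [dualMap, snd_omega]

omit [IsAffineHom G.hom] in
theorem tanCoord_act (χ : Multiplicative D.M →* K) (τ : D.M →+ K) (x : D.idx → K) :
    (tanCoord τ x).act ((TrivSqZeroExt.inlHom K K).toMonoidHom.comp χ) =
      tanCoord τ (fun c => χ (Multiplicative.ofAdd (D.P.root c)) * x c) := by
  refine Coord.ext rfl (funext fun c => TrivSqZeroExt.ext ?_ ?_)
  · show ((inl (χ _) : DualNumber K) * inr (x c)).fst = (inr _ : DualNumber K).fst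
    simp
  · show ((inl (χ _) : DualNumber K) * inr (x c)).snd = (inr _ : DualNumber K).snd
    simp [mul_comm]

omit [IsAffineHom G.hom] in
theorem tanDer_comp {P : Type u} [CommRing P] [Algebra R P] (π : P →ₗ[R] K) (τ : D.M →+ P) (x : D.idx → P) :
    tanDer (R := R) (π.toAddMonoidHom.comp τ) (fun c => π (x c)) = π.comp (tanDer τ x) := by
  have hπ : IsPtDer (originIn D R K) (π.comp (tanDer (R := R) τ x)) := by
    intro a b
    simp only [LinearMap.comp_apply, isPtDer_tanDer τ x a b, map_add, originIn_eq, AlgHom.comp_apply,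
      Algebra.ofId_apply, ← Algebra.smul_def, map_smul]
  refine ptDer_ext (isPtDer_tanDer _ _) hπ (fun m => ?_) fun c => ?_
  · rw [tanDer_tor, LinearMap.comp_apply, tanDer_tor]; rfl
  · rw [tanDer_co, LinearMap.comp_apply, tanDer_co]

end Ring

section Field

variable {K : Type u} [Field K] [Algebra R K]

/-- A linear functional on a group algebra: a coefficient. -/
def coeffLM (k : Multiplicative D.M) : MonoidAlgebra K (Multiplicative D.M) →ₗ[R] K where
  toFun p := p.coeff k
  map_add' p q := by simp
  map_smul' r p := by simp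

include hv in
theorem chart_coeff (τ : D.M →+ K) (x : D.idx → K)
    (h : ∀ a, tanDer (R := R) τ x (chartHom j v l a) = 0) (k : Multiplicative D.M) :
    chart j v l (tanCoord (D := D)
      ((coeffLM (K := K) (R := R) k).toAddMonoidHom.comp
        ((IsScalarTower.toAlgHom R K (MonoidAlgebra K (Multiplicative D.M)) : K →+ _).comp τ))
      (fun c => coeffLM (R := R) k (MonoidAlgebra.single (Multiplicative.ofAdd (D.P.root c)) (x c)))) =
      (1 : Sp j (DualNumber K) ⟶ G) := by
  classical
  haveI : ∀ c, IsMonHom (v c) := fun c => (hv c).1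
  have h2 := congrArg (fun p => mor j (dualMap (IsScalarTower.toAlgHom R K (MonoidAlgebra K (Multiplicative D.M)))) ≫ p)
    ((chart_tanCoord_eq_one_iff j τ x).2 h)
  simp only [mor_chart, MonObj.comp_one, tanCoord_map_dualMap] at h2
  have h3 := congrArg (fun p => (tpt D j ((TrivSqZeroExt.inlHom (MonoidAlgebra K (Multiplicative D.M))
    (MonoidAlgebra K (Multiplicative D.M))).toMonoidHom.comp (MonoidAlgebra.of K (Multiplicative D.M))) ≫ D.i) * p *
    (tpt D j ((TrivSqZeroExt.inlHom (MonoidAlgebra K (Multiplicative D.M))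
    (MonoidAlgebra K (Multiplicative D.M))).toMonoidHom.comp (MonoidAlgebra.of K (Multiplicative D.M))) ≫ D.i)⁻¹) h2
  simp only [conj_chart j hv, _root_.mul_one, mul_inv_cancel, tanCoord_act] at h3
  rw [chart_tanCoord_eq_one_iff] at h3 ⊢
  intro a
  have hx : ∀ c, MonoidAlgebra.of K (Multiplicative D.M) (Multiplicative.ofAdd (D.P.root c)) *
      IsScalarTower.toAlgHom R K (MonoidAlgebra K (Multiplicative D.M)) (x c) =
        MonoidAlgebra.single (Multiplicative.ofAdd (D.P.root c)) (x c) := fun c => by
    simp [MonoidAlgebra.coe_algebraMap]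
  simp only [hx] at h3
  rw [tanDer_comp, LinearMap.comp_apply, h3 a, map_zero]

include hv in
theorem eq_zero_of_comp_chartHom (hl : l.Nodup) (hmem : ∀ c, c ∈ l) (τ : D.M →+ K) (x : D.idx → K)
    (h : ∀ a, tanDer (R := R) τ x (chartHom j v l a) = 0) : τ = 0 ∧ x = 0 := by
  classical
  haveI := isMonHom_i (D := D)
  haveI : ∀ c, IsMonHom (v c) := fun c => (hv c).1
  have h4 := chart_coeff j hv τ x h
  have hsc : ∀ (k : Multiplicative D.M) (a : K), coeffLM (R := R) k
      (IsScalarTower.toAlgHom R K (MonoidAlgebra K (Multiplicative D.M)) a) = if k = 1 then a else 0 := fun k a => by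
    simp [coeffLM, MonoidAlgebra.coe_algebraMap, Finsupp.single_apply, eq_comm]
  have hne : ∀ c : D.idx, Multiplicative.ofAdd (D.P.root c) ≠ (1 : Multiplicative D.M) :=
    fun c hc => D.P.ne_zero c (by simpa using hc)
  have hτ : τ = 0 := by
    have h5 := h4 1
    rw [chart, rootProd_eq_one j fun c _ => ?_, _root_.mul_one] at h5
    · haveI := D.maximalTorus.2.1
      have h6 := tpt_injective j (((cancel_mono D.i).1 (h5.trans (MonObj.one_comp D.i).symm)).trans (tpt_one j).symm)
      refine AddMonoidHom.ext fun m => ?_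
      have := congrArg TrivSqZeroExt.snd (DFunLike.congr_fun h6 (Multiplicative.ofAdd m))
      simpa [tanCoord, torTan, hsc, coeffLM] using this
    · simp [tanCoord, coeffLM, hne c]
  refine ⟨hτ, funext fun c => ?_⟩
  have h5 := h4 (Multiplicative.ofAdd (D.P.root c))
  rw [chart, rootProd_single j hl (hmem c) fun c' hc' => by
    simp [tanCoord, coeffLM, D.P.root.injective.ne hc']] at h5
  have ht : ((coeffLM (K := K) (R := R) (Multiplicative.ofAdd (D.P.root c))).toAddMonoidHom.comp
      ((IsScalarTower.toAlgHom R K (MonoidAlgebra K (Multiplicative D.M)) : K →+ _).comp τ)) = 0 := by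
    rw [hτ]; simp
  rw [ht, show (tanCoord (D := D) (0 : D.M →+ K) _).tor = 1 from
    MonoidHom.ext fun m => TrivSqZeroExt.ext (by simp [tanCoord, torTan]) (by simp [tanCoord, torTan]),
    tpt_one, MonObj.one_comp, _root_.one_mul] at h5
  haveI : IsClosedImmersion (v c).left := (hv c).2.1
  haveI : Mono (v c) := Over.mono_of_mono_left _
  have h7 := (cancel_mono (v c)).1 (h5.trans (MonObj.one_comp (v c)).symm)
  rw [← gp_zero] at h7
  have h8 := congrArg (fun z => TrivSqZeroExt.snd (gv z)) h7
  simpa [gv_gp, tanCoord, coeffLM] using h8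

end Field

end Groth.L14.Chart
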